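import Mathlib

/-!
The Thompson transfer lemma with extremal conjugates (helper30).
-/

set_option autoImplicit false
set_option linter.all false

namespace Cfsg.Agent.G2Syl

variable {G : Type*} [Group G] [Finite G]

/-- An involution `u ∈ S \ M`, `[S : M] = 2`, none of whose extremal conjugates lies in `M`, lies outside a
subgroup of index two of the group. -/
theorem transfer_extremal (S : Sylow 2 G) (M : Subgroup G)
    (hM : M.relIndex (S : Subgroup G) = 2) {u : G} (hu : orderOf u = 2)
    (hno : ∀ g : G, g * u * g⁻¹ ∈ (S : Subgroup G) → g * u * g⁻¹ ∈ M →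
      ∃ k : G, k * u * k⁻¹ ∈ (S : Subgroup G) ∧
        Nat.card ↥((S : Subgroup G) ⊓ Subgroup.centralizer ({g * u * g⁻¹} : Set G)) <
          Nat.card ↥((S : Subgroup G) ⊓ Subgroup.centralizer ({k * u * k⁻¹} : Set G))) :
    ∃ N : Subgroup G, N.Normal ∧ N.index = 2 ∧ u ∉ N := by
  classical
  have : Fact (Nat.Prime 2) := ⟨Nat.prime_two⟩
  set H : Subgroup G := (S : Subgroup G) with hH
  have hM' : (M.subgroupOf H).index = 2 := hM
  let φ : H →* ℤˣ := MonoidHom.mk' (fun s => if s ∈ M.subgroupOf H then 1 else -1) (by
    intro a b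
    rw [Subgroup.mul_mem_iff_of_index_two hM']
    by_cases ha : a ∈ M.subgroupOf H <;> by_cases hb : b ∈ M.subgroupOf H <;> simp [ha, hb])
  have hu2 : u ^ 2 = 1 := by rw [← hu]; exact pow_orderOf_eq_one u
  let _ := H.fintypeQuotientOfFiniteIndex
  have hfix : ∀ q : G ⧸ H, u • q = q ↔ q.out⁻¹ * u * q.out ∈ H := by
    intro q
    conv_lhs => rw [← QuotientGroup.out_eq' q]
    rw [MulAction.Quotient.smul_mk, eq_comm, QuotientGroup.eq, smul_eq_mul, mul_assoc]
  let f : G ⧸ H → ℤˣ := fun q =>
    if hq : u • q = q then φ ⟨_, (hfix q).1 hq⟩ else 1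
  have hprod : MonoidHom.transfer φ u = ∏ q : G ⧸ H, f q := by
    rw [MonoidHom.transfer_eq_prod_quotient_orbitRel_zpowers_quot φ u,
      ← Finset.prod_fiberwise Finset.univ
        (Quotient.mk (MulAction.orbitRel (Subgroup.zpowers u) (G ⧸ H))) f]
    refine Finset.prod_congr rfl (fun o _ => ?_)
    have horb : ∀ x : G ⧸ H, Quotient.mk (MulAction.orbitRel (Subgroup.zpowers u) (G ⧸ H)) x = o →
        ∃ k : ℤ, u ^ k • o.out = x := by
      intro x hx
      have hrel : (MulAction.orbitRel (Subgroup.zpowers u) (G ⧸ H)) x o.out :=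
        Quotient.exact (hx.trans (Quotient.out_eq o).symm)
      obtain ⟨⟨_, k, rfl⟩, hw⟩ := hrel
      exact ⟨k, hw⟩
    by_cases hfx : u • o.out = o.out
    · have hper : Function.minimalPeriod (u • ·) o.out = 1 :=
        Function.minimalPeriod_eq_one_iff_isFixedPt.mpr hfx
      rw [Finset.prod_eq_single o.out]
      · simp only [f, dif_pos hfx]
        congr 1
        apply Subtype.ext
        simp only
        rw [hper, pow_one]
      · intro x hx hne
        obtain ⟨k, hk⟩ := horb x (by simpa using hx)
        exfalso; apply hne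
        rw [← hk]
        have : ∀ m : ℤ, u ^ m ∈ MulAction.stabilizer G o.out := fun m => Subgroup.zpow_mem _ hfx m
        exact this k
      · intro h; simp at h
    · have hper : Function.minimalPeriod (u • ·) o.out = 2 := by
        apply Function.minimalPeriod_eq_prime
        · show u • u • o.out = o.out
          rw [← mul_smul, ← sq, hu2, one_smul]
        · exact hfx
      rw [Finset.prod_eq_one]
      · symm
        have : (⟨o.out.out⁻¹ * u ^ Function.minimalPeriod (u • ·) o.out * o.out.out,
            QuotientGroup.out_conj_pow_minimalPeriod_mem H u o.out⟩ : H) = 1 := by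
          apply Subtype.ext
          simp only [hper, hu2, mul_one, inv_mul_cancel]; rfl
        rw [this, map_one]
      · intro x hx
        obtain ⟨k, hk⟩ := horb x (by simpa using hx)
        have hnx : ¬ u • x = x := by
          intro h; apply hfx
          rw [← hk, ← mul_smul, (Commute.self_zpow u k).eq, mul_smul] at h
          exact smul_left_cancel _ h
        simp only [f, dif_neg hnx]
  set F : Finset (G ⧸ H) := Finset.univ.filter fun q => u • q = q with hF
  have hodd : Odd F.card := by
    have hp : IsPGroup 2 (Subgroup.zpowers u) :=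
      IsPGroup.of_card (n := 1) (by rw [Nat.card_zpowers, hu, pow_one])
    have hm := hp.card_modEq_card_fixedPoints (G ⧸ H)
    have hset : Nat.card (MulAction.fixedPoints (Subgroup.zpowers u) (G ⧸ H)) = F.card := by
      rw [← Nat.card_eq_finsetCard]
      refine Nat.card_congr (Equiv.subtypeEquivRight fun q => ?_)
      simp only [MulAction.mem_fixedPoints, hF, Finset.mem_filter, Finset.mem_univ, true_and]
      refine ⟨fun h => h ⟨u, Subgroup.mem_zpowers u⟩, fun h w => ?_⟩
      have : (w : G) ∈ MulAction.stabilizer G q := (Subgroup.zpowers_le.mpr h) w.2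
      exact this
    rw [hset] at hm
    have hi : ¬ 2 ∣ Nat.card (G ⧸ H) := S.not_dvd_index
    rw [Nat.odd_iff, ← hm]
    omega
  set F1 : Finset (G ⧸ H) := F.filter fun q => q.out⁻¹ * u * q.out ∈ M with hF1
  set F0 : Finset (G ⧸ H) := F.filter fun q => q.out⁻¹ * u * q.out ∉ M with hF0
  have hsum : F1.card + F0.card = F.card := Finset.card_filter_add_card_filter_not _
  -- a Sylow subgroup of the centralizer has no fixed point among the cosets pointing into `M`
  have heven : Even F1.card := by
    obtain ⟨P⟩ := (inferInstance : Nonempty (Sylow 2 (Subgroup.centralizer ({u} : Set G))))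
    set Q : Subgroup G := (P : Subgroup _).map (Subgroup.centralizer ({u} : Set G)).subtype with hQ
    have hQc : ∀ x ∈ Q, x * u = u * x := by
      rintro _ ⟨x, -, rfl⟩
      exact Subgroup.mem_centralizer_singleton_iff.1 x.2
    have hQp : IsPGroup 2 Q := P.2.map _
    -- translating by `Q` does not change whether a coset points into `M`
    have hval : ∀ (x : G), x * u = u * x → ∀ q : G ⧸ H, q ∈ F1 → x • q ∈ F1 := by
      intro x hx q hq
      simp only [hF1, hF, Finset.mem_filter, Finset.mem_univ, true_and] at hq ⊢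
      have hfx : u • x • q = x • q := by rw [← mul_smul, ← hx, mul_smul, hq.1]
      refine ⟨hfx, ?_⟩
      obtain ⟨s, hs⟩ : ∃ s : H, (x • q).out = x * q.out * s := by
        have : ((x * q.out : G) : G ⧸ H) = x • q := by
          conv_rhs => rw [← QuotientGroup.out_eq' q]
          rw [MulAction.Quotient.smul_mk, smul_eq_mul]
        rw [← this]
        exact QuotientGroup.mk_out_eq_mul H _
      have hin := (hfix q).1 hq.1
      rw [hs, show (x * q.out * (s : G))⁻¹ * u * (x * q.out * s) =
          (s : G)⁻¹ * (q.out⁻¹ * (x⁻¹ * (u * x)) * q.out) * s by group, ← hx, inv_mul_cancel_left]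
      haveI : (M.subgroupOf H).Normal := Subgroup.normal_of_index_eq_minFac_card (by
        rw [hM']
        have hd : 2 ∣ Nat.card H := hM' ▸ Subgroup.index_dvd_card _
        exact ((Nat.minFac_eq_two_iff _).2 hd).symm)
      have := Subgroup.Normal.conj_mem ‹(M.subgroupOf H).Normal› ⟨_, hin⟩ hq.2 s⁻¹
      simpa [Subgroup.mem_subgroupOf] using this
    letI : MulAction Q {q // q ∈ F1} :=
      { smul := fun x q => ⟨(x : G) • q.1, hval x (hQc x x.2) q.1 q.2⟩
        one_smul := fun q => Subtype.ext (one_smul G q.1)
        mul_smul := fun x y q => Subtype.ext (mul_smul (x : G) (y : G) q.1) }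
    have hm := hQp.card_modEq_card_fixedPoints {q // q ∈ F1}
    have hempty : IsEmpty (MulAction.fixedPoints Q {q // q ∈ F1}) := by
      constructor
      rintro ⟨⟨q, hq⟩, hqf⟩
      simp only [hF1, hF, Finset.mem_filter, Finset.mem_univ, true_and] at hq
      have hin := (hfix q).1 hq.1
      set y := q.out with hy
      have hv : y⁻¹ * u * (y⁻¹)⁻¹ = y⁻¹ * u * y := by rw [inv_inv]
      obtain ⟨k, hk, hlt⟩ := hno y⁻¹ (by rwa [hv]) (by rw [hv]; exact hq.2)
      rw [hv] at hlt
      -- `Q` conjugates into `C_S(v)`
      have hQle : Q.map (MulAut.conj y⁻¹).toMonoidHom ≤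
          H ⊓ Subgroup.centralizer ({y⁻¹ * u * y} : Set G) := by
        rintro _ ⟨x, hx, rfl⟩
        have hxq : x • q = q := congrArg Subtype.val (hqf ⟨x, hx⟩)
        refine ⟨?_, ?_⟩
        · conv_lhs at hxq => rw [← QuotientGroup.out_eq' q]
          rw [MulAction.Quotient.smul_mk, smul_eq_mul] at hxq
          conv_rhs at hxq => rw [← QuotientGroup.out_eq' q]
          rw [eq_comm, QuotientGroup.eq] at hxq
          simpa [hy, mul_assoc] using hxq
        · show _ ∈ Subgroup.centralizer ({y⁻¹ * u * y} : Set G)
          rw [Subgroup.mem_centralizer_singleton_iff]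
          simp only [MulEquiv.coe_toMonoidHom, MulAut.conj_apply, inv_inv]
          rw [show y⁻¹ * x * y * (y⁻¹ * u * y) = y⁻¹ * (x * u) * y by group, hQc x hx]
          group
      have h1 := Subgroup.card_le_of_le hQle
      rw [Subgroup.card_map_of_injective (MulAut.conj y⁻¹).injective, hQ,
        Subgroup.card_map_of_injective (Subgroup.subtype_injective _)] at h1
      -- `C_S(k u k⁻¹)` conjugates into `C(u)`
      set R := H ⊓ Subgroup.centralizer ({k * u * k⁻¹} : Set G) with hR
      set R' := R.map (MulAut.conj k⁻¹).toMonoidHom with hR'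
      have hR'c : R' ≤ Subgroup.centralizer ({u} : Set G) := by
        rintro _ ⟨x, hx, rfl⟩
        rw [Subgroup.mem_centralizer_singleton_iff]
        simp only [MulEquiv.coe_toMonoidHom, MulAut.conj_apply, inv_inv]
        have hc := Subgroup.mem_centralizer_singleton_iff.1 hx.2
        calc k⁻¹ * x * k * u = k⁻¹ * (x * (k * u * k⁻¹)) * k := by group
          _ = k⁻¹ * (k * u * k⁻¹ * x) * k := by rw [hc]
          _ = u * (k⁻¹ * x * k) := by group
      have hR'p : IsPGroup 2 R' := (S.2.to_le inf_le_left).map _
      obtain ⟨P', hP'⟩ := (hR'p.comap_subtype (K := Subgroup.centralizer ({u} : Set G))).exists_le_sylow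
      have h2 := Subgroup.card_le_of_le hP'
      rw [← Nat.card_congr (P.equiv P').toEquiv] at h2
      rw [show Nat.card (Subgroup.comap (Subgroup.centralizer ({u} : Set G)).subtype R') = Nat.card R from
        (Nat.card_congr (Subgroup.subgroupOfEquivOfLe hR'c).toEquiv).trans
          (Subgroup.card_map_of_injective (MulAut.conj k⁻¹).injective)] at h2
      omega
    rw [Nat.card_eq_zero.2 (Or.inl hempty), Nat.card_eq_fintype_card, Fintype.card_coe] at hm
    exact Nat.even_iff.2 hm
  have hmin : MonoidHom.transfer φ u = -1 := by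
    rw [hprod, ← Finset.prod_filter_mul_prod_filter_not Finset.univ (fun q => u • q = q)]
    rw [Finset.prod_eq_one (s := Finset.univ.filter fun q => ¬ u • q = q) (fun q hq => by
      simp only [Finset.mem_filter] at hq
      simp only [f, dif_neg hq.2]), mul_one, ← hF,
      ← Finset.prod_filter_mul_prod_filter_not F (fun q => q.out⁻¹ * u * q.out ∈ M)]
    rw [Finset.prod_eq_one (fun q hq => ?_), one_mul,
      Finset.prod_congr rfl (g := fun _ => (-1 : ℤˣ)) (fun q hq => ?_), Finset.prod_const, ← hF0]
    · refine Odd.neg_one_pow ?_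
      rw [← hsum, Nat.odd_add] at hodd
      by_contra h
      exact (Nat.not_odd_iff_even.2 heven) (hodd.2 (Nat.not_odd_iff_even.1 h))
    · simp only [hF, Finset.mem_filter, Finset.mem_univ, true_and] at hq
      simp only [f, dif_pos hq.1]
      show (if _ ∈ M.subgroupOf H then (1 : ℤˣ) else -1) = -1
      rw [if_neg]
      simpa [Subgroup.mem_subgroupOf] using hq.2
    · simp only [hF, Finset.mem_filter, Finset.mem_univ, true_and] at hq
      simp only [f, dif_pos hq.1]
      show (if _ ∈ M.subgroupOf H then (1 : ℤˣ) else -1) = 1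
      rw [if_pos]
      simpa [Subgroup.mem_subgroupOf] using hq.2
  refine ⟨(MonoidHom.transfer φ).ker, inferInstance, ?_, ?_⟩
  · have hs : Function.Surjective (MonoidHom.transfer φ) := by
      intro y
      rcases Int.units_eq_one_or y with rfl | rfl
      · exact ⟨1, map_one _⟩
      · exact ⟨u, hmin⟩
    rw [Subgroup.index_ker, MonoidHom.range_eq_top.mpr hs, Subgroup.card_top,
      Nat.card_eq_fintype_card]
    rfl
  · rw [MonoidHom.mem_ker, hmin]; decide

end Cfsg.Agent.G2Syl
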