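import Cfsg.Agent.G2Syl.Model
import Cfsg.Agent.G2Orders80.Rank1
import Cfsg.Agent.Lib.SylTwo.GLTwo
import Cfsg.Agent.Lib.PGroup.Basic
import Cfsg.Agent.BC85.G2.Sylow

/-!
The model group is a Sylow 2-subgroup of the Chevalley group of type G2 in odd characteristic (helper30).
-/

set_option autoImplicit false
set_option linter.all false

namespace Cfsg.Agent.G2Syl

open Mdl Matrix
open Cfsg.Lie Cfsg.Agent.ChevGroup Cfsg.Agent.ChevCore Cfsg.Agent.G2Orders80

universe u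

/-! ### homomorphisms out of the model -/

section hom

variable {G : Type u} [Group G] {b : ℕ}

/-- a power indexed by a residue -/
def pv (e : G) (x : ZMod (2 ^ (b + 2))) : G := e ^ x.val

theorem pv_add {e : G} (he : e ^ 2 ^ (b + 2) = 1) (x y : ZMod (2 ^ (b + 2))) :
    pv e (x + y) = pv e x * pv e y := by
  rw [pv, pv, pv, ← pow_add, ZMod.val_add, ← pow_eq_pow_mod _ he]

theorem pv_zero (e : G) : pv e (0 : ZMod (2 ^ (b + 2))) = 1 := by rw [pv, ZMod.val_zero, pow_zero]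

theorem pv_neg {e : G} (he : e ^ 2 ^ (b + 2) = 1) (x : ZMod (2 ^ (b + 2))) :
    pv e (-x) = (pv e x)⁻¹ := by
  refine eq_inv_of_mul_eq_one_left ?_
  rw [← pv_add he, neg_add_cancel, pv_zero]

theorem exists_model_hom {e₁ e₂ s i : G} (h1 : e₁ ^ 2 ^ (b + 2) = 1) (h2 : e₂ ^ 2 ^ (b + 2) = 1)
    (hc : Commute e₁ e₂) (hs : s * s = 1) (hi : i * i = 1) (hsi : s * i = i * s)
    (hs1 : s * e₁ * s⁻¹ = e₂) (hi1 : i * e₁ * i⁻¹ = e₁⁻¹) (hi2 : i * e₂ * i⁻¹ = e₂⁻¹) :
    ∃ f : Mdl (2 ^ (b + 2)) →* G, f (cz b) = e₁ ^ 2 ^ (b + 1) * e₂ ^ 2 ^ (b + 1) := by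
  have hs2 : s * e₂ * s⁻¹ = e₁ := by
    rw [← hs1, show s * (s * e₁ * s⁻¹) * s⁻¹ = (s * s) * e₁ * (s * s)⁻¹ by group, hs]
    group
  let w : ZMod (2 ^ (b + 2)) × ZMod (2 ^ (b + 2)) → G := fun v => pv e₁ v.1 * pv e₂ v.2
  have hw : ∀ v v', w (v + v') = w v * w v' := by
    intro v v'
    show pv e₁ (v.1 + v'.1) * pv e₂ (v.2 + v'.2) = _
    rw [pv_add h1, pv_add h2]
    have : Commute (pv e₁ v'.1) (pv e₂ v.2) := hc.pow_pow _ _
    exact this.mul_mul_mul_comm _ _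
  let k : Bool → Bool → G := fun σ ι => (if σ then s else 1) * (if ι then i else 1)
  have hk : ∀ σ ι σ' ι', k σ ι * k σ' ι' = k (xor σ σ') (xor ι ι') := by
    intro σ ι σ' ι'
    have a1 : ∀ y, s * (s * y) = y := fun y => by rw [← mul_assoc, hs, one_mul]
    have a2 : ∀ y, i * (i * y) = y := fun y => by rw [← mul_assoc, hi, one_mul]
    have a3 : ∀ y, i * (s * y) = s * (i * y) := fun y => by rw [← mul_assoc, ← hsi, mul_assoc]
    cases σ <;> cases ι <;> cases σ' <;> cases ι' <;>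
      simp [k, hs, hi, ← hsi, mul_assoc, a1, a2, a3]
  have hsw : ∀ v : ZMod (2 ^ (b + 2)) × ZMod (2 ^ (b + 2)), s * w v * s⁻¹ = w (v.2, v.1) := by
    intro v
    show s * (e₁ ^ v.1.val * e₂ ^ v.2.val) * s⁻¹ = e₁ ^ v.2.val * e₂ ^ v.1.val
    rw [show s * (e₁ ^ v.1.val * e₂ ^ v.2.val) * s⁻¹ =
      (s * e₁ ^ v.1.val * s⁻¹) * (s * e₂ ^ v.2.val * s⁻¹) by group, ← conj_pow, ← conj_pow, hs1, hs2]
    exact (hc.pow_pow _ _).symm.eq
  have hiw : ∀ v : ZMod (2 ^ (b + 2)) × ZMod (2 ^ (b + 2)), i * w v * i⁻¹ = w (-v.1, -v.2) := by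
    intro v
    show i * (pv e₁ v.1 * pv e₂ v.2) * i⁻¹ = pv e₁ (-v.1) * pv e₂ (-v.2)
    rw [pv_neg h1, pv_neg h2, pv, pv,
      show i * (e₁ ^ v.1.val * e₂ ^ v.2.val) * i⁻¹ =
        (i * e₁ ^ v.1.val * i⁻¹) * (i * e₂ ^ v.2.val * i⁻¹) by group, ← conj_pow, ← conj_pow, hi1, hi2,
      inv_pow, inv_pow]
  have hkw : ∀ σ ι v, k σ ι * w v = w (act σ ι v) * k σ ι := by
    intro σ ι v
    rw [← mul_inv_eq_iff_eq_mul]
    cases σ <;> cases ι
    · simp [k, act]
    · simpa [k, act] using hiw v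
    · simpa [k, act] using hsw v
    · simp only [k, act, if_true]
      rw [show s * i * w v * (s * i)⁻¹ = s * (i * w v * i⁻¹) * s⁻¹ by group, hiw, hsw]
  refine ⟨MonoidHom.mk' (fun m => w m.v * k m.σ m.ι) ?_, ?_⟩
  · rintro ⟨v, σ, ι⟩ ⟨v', σ', ι'⟩
    show w (v + act σ ι v') * k (xor σ σ') (xor ι ι') = w v * k σ ι * (w v' * k σ' ι')
    rw [hw, ← hk]
    calc w v * w (act σ ι v') * (k σ ι * k σ' ι') = w v * (w (act σ ι v') * k σ ι) * k σ' ι' := by group
      _ = w v * (k σ ι * w v') * k σ' ι' := by rw [hkw]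
      _ = w v * k σ ι * (w v' * k σ' ι') := by group
  · show w (hf b, hf b) * k false false = _
    have hval : (hf b).val = 2 ^ (b + 1) :=
      ZMod.val_natCast_of_lt (Nat.pow_lt_pow_right (by norm_num) (by omega))
    simp [k, w, pv, hval]

theorem injective_of_cz {f : Mdl (2 ^ (b + 2)) →* G} (h : f (cz b) ≠ 1) : Function.Injective f := by
  haveI : Fact (Nat.Prime 2) := ⟨Nat.prime_two⟩
  rw [← MonoidHom.ker_eq_bot_iff]
  by_contra hb
  have hp : IsPGroup 2 (Mdl (2 ^ (b + 2))) :=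
    IsPGroup.of_card (n := 2 * (b + 2) + 2) (by rw [Mdl.card]; ring)
  obtain ⟨m, hm, hm1⟩ := (Subgroup.bot_or_exists_ne_one _).resolve_left (PGroup.inf_center_ne_bot hp hb)
  obtain ⟨hmk, hmc⟩ := Subgroup.mem_inf.1 hm
  rcases center_eq b (g := m) (fun k => ((Subgroup.mem_center_iff.1 hmc) k).symm) with rfl | rfl
  · exact hm1 rfl
  · exact h hmk

end hom

/-! ### the special linear group of degree two -/

variable {F : Type u} [Field F]

theorem sl_one_add_sq (x : SL2 F) :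
    (1 + x.1) * (1 + x.1) = (1 + x.1).det • x.1 := by
  have hd := x.2
  rw [Matrix.det_fin_two] at hd
  ext i j
  fin_cases i <;> fin_cases j <;>
    simp [Matrix.mul_apply, Fin.sum_univ_two, Matrix.det_fin_two, Matrix.one_apply] <;>
    first
      | linear_combination (-(1 + x.1 0 0)) * hd
      | linear_combination (-(1 + x.1 1 1)) * hd
      | linear_combination hd
      | linear_combination -hd
      | linear_combination (x.1 0 1) * hd
      | linear_combination (x.1 1 0) * hd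
      | linear_combination (-x.1 0 1) * hd
      | linear_combination (-x.1 1 0) * hd
      | ring

theorem pow_of_sq_zero {x : SL2 F} (h : (1 + x.1) * (1 + x.1) = 0) (n : ℕ) :
    x.1 ^ n = (-1 : F) ^ n • (1 - (n : F) • (1 + x.1)) := by
  induction n with
  | zero => simp
  | succ n ih =>
    have hx : x.1 = (1 + x.1) - 1 := by abel
    rw [pow_succ, ih]
    nth_rw 2 [hx]
    generalize 1 + x.1 = N at h ⊢
    rw [smul_mul_assoc, pow_succ, Nat.cast_succ, add_smul, one_smul, ← smul_smul ((-1 : F) ^ n),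
      neg_one_smul]
    congr 1
    rw [sub_mul, one_mul, mul_sub, mul_one, smul_mul_assoc, h, smul_zero]
    abel

/-- The data in `SL₂`. -/
theorem exists_sl_data [Fintype F] (hF : Odd (Fintype.card F)) :
    ∃ b : ℕ, ∃ x y : SL2 F, x ^ 2 ^ (b + 1) = -1 ∧ y * x * y⁻¹ = x⁻¹ ∧ y * y = -1 ∧
      ¬ IsSquare ((1 + x.1).det) ∧
      (Fintype.card F ^ 2 - 1).factorization 2 = b + 3 := by
  classical
  haveI : Fact (Nat.Prime 2) := ⟨Nat.prime_two⟩
  obtain ⟨Q⟩ : Nonempty (Sylow 2 (SL2 F)) := inferInstance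
  obtain ⟨k, hk, ⟨e⟩⟩ := LinearGroup.quaternion_sylow_SL_two (SylTwo.odd_natCard hF) Q
  obtain ⟨b, rfl⟩ : ∃ b, k = b + 1 := ⟨k - 1, by omega⟩
  have h2 := SylTwo.two_ne_zero_of_odd_card hF
  haveI : NeZero (2 ^ (b + 1)) := ⟨by positivity⟩
  let j : QuaternionGroup (2 ^ (b + 1)) →* SL2 F := (Q : Subgroup (SL2 F)).subtype.comp e.symm.toMonoidHom
  have hj : Function.Injective j := Subtype.val_injective.comp e.symm.injective
  have hQcard : Nat.card (Q : Subgroup (SL2 F)) = 2 ^ (b + 3) := by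
    rw [Nat.card_congr e.toEquiv, Nat.card_eq_fintype_card, QuaternionGroup.card]
    ring
  set x := j (.a 1) with hxdef
  set y := j (.xa 0) with hydef
  have hox : orderOf x = 2 ^ (b + 2) := by
    rw [hxdef, orderOf_injective j hj, QuaternionGroup.orderOf_a_one]
    ring
  have hlt : 2 ^ (b + 1) < 2 ^ (b + 2) := Nat.pow_lt_pow_right (by norm_num) (by omega)
  have hxh : x ^ 2 ^ (b + 1) = -1 := by
    refine (BC85.G2.sl_sq_eq_one h2 ?_).resolve_left fun h => ?_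
    · rw [← pow_add, show 2 ^ (b + 1) + 2 ^ (b + 1) = 2 ^ (b + 2) by ring, ← hox, pow_orderOf_eq_one]
    · exact pow_ne_one_of_lt_orderOf (by positivity) (hox ▸ hlt) h
  have hyx : y * x * y⁻¹ = x⁻¹ := by
    rw [hxdef, hydef, ← map_inv, ← map_inv, ← map_mul, ← map_mul]
    refine congrArg j ?_
    rw [mul_inv_eq_iff_eq_mul, show (QuaternionGroup.a (1 : ZMod (2 * 2 ^ (b + 1))))⁻¹ = .a (-1) from rfl,
      QuaternionGroup.xa_mul_a, QuaternionGroup.a_mul_xa]
    congr 1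
    ring
  have hyy : y * y = -1 := by
    have hy2 : y * y = x ^ 2 ^ (b + 1) := by
      rw [hxdef, hydef, ← map_pow, ← map_mul, QuaternionGroup.a_one_pow, QuaternionGroup.xa_mul_xa]
      refine congrArg j (congrArg _ ?_)
      simp
    rw [hy2, hxh]
  have hne : (-1 : SL2 F) ≠ 1 := by
    rw [← hxh]
    exact pow_ne_one_of_lt_orderOf (by positivity) (hox ▸ hlt)
  refine ⟨b, x, y, hxh, hyx, hyy, ?_, ?_⟩
  · rintro ⟨σ, hσ⟩
    set d := (1 + x.1).det with hd
    by_cases hd0 : d = 0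
    · have hN : (1 + x.1) * (1 + x.1) = 0 := by rw [sl_one_add_sq, ← hd, hd0, zero_smul]
      have h := pow_of_sq_zero hN (2 ^ (b + 1))
      rw [← Matrix.SpecialLinearGroup.coe_pow, hxh, Matrix.SpecialLinearGroup.coe_neg,
        Matrix.SpecialLinearGroup.coe_one, Even.neg_one_pow (even_two.pow_of_ne_zero (by omega)),
        one_smul] at h
      have h' := congrArg (fun M => M * (1 + x.1)) h
      simp only [sub_mul, one_mul, smul_mul_assoc, hN, smul_zero, sub_zero, neg_mul] at h'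
      have h'' : x.1 = -1 := by
        have h0 : (2 : F) • (1 + x.1) = 0 := by
          rw [two_smul]
          nth_rw 1 [← h']
          simp
        rw [smul_eq_zero, or_iff_right h2] at h0
        exact eq_neg_of_add_eq_zero_right h0
      have hx : x = -1 := Subtype.ext (by
        rw [Matrix.SpecialLinearGroup.coe_neg, Matrix.SpecialLinearGroup.coe_one]; exact h'')
      have hle := orderOf_le_of_pow_eq_one (x := x) (n := 2) (by norm_num) (by rw [hx]; simp)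
      have : 2 ^ 2 ≤ 2 ^ (b + 2) := Nat.pow_le_pow_right (by norm_num) (by omega)
      omega
    have hσ0 : σ ≠ 0 := by rintro rfl; exact hd0 (by rw [hσ]; simp)
    let v : SL2 F := ⟨σ⁻¹ • (1 + x.1), by
      rw [Matrix.det_smul, Fintype.card_fin, ← hd, hσ]
      field_simp⟩
    have hv : v * v = x := Subtype.ext (by
      show (σ⁻¹ • (1 + x.1)) * (σ⁻¹ • (1 + x.1)) = x.1
      rw [Matrix.smul_mul, Matrix.mul_smul, sl_one_add_sq, ← hd, smul_smul, smul_smul, hσ]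
      rw [show σ⁻¹ * σ⁻¹ * (σ * σ) = 1 by field_simp, one_smul])
    have hov : orderOf v = 2 ^ (b + 3) := by
      have hpow : ∀ m, v ^ 2 ^ (m + 1) = x ^ 2 ^ m := fun m => by
        rw [pow_succ', pow_mul, pow_two, hv]
      refine orderOf_eq_prime_pow (by rw [hpow, hxh]; exact hne) ?_
      rw [hpow, ← hox, pow_orderOf_eq_one]
    let R : Sylow 2 (SL2 F) := Sylow.ofCard (Subgroup.zpowers v) (by
      rw [Nat.card_zpowers, hov, ← hQcard, Sylow.card_eq_multiplicity])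
    have hcy : IsCyclic (R : Subgroup (SL2 F)) := by
      show IsCyclic (Subgroup.zpowers v)
      infer_instance
    have hcy' : IsCyclic (QuaternionGroup (2 ^ (b + 1))) :=
      isCyclic_of_surjective ((R.equiv Q).trans e).toMonoidHom ((R.equiv Q).trans e).surjective
    letI := hcy'.commGroup
    have hcomm : y * x = x * y := by rw [hxdef, hydef, ← map_mul, ← map_mul, mul_comm]
    rw [hcomm, mul_inv_cancel_right] at hyx
    have hle := orderOf_le_of_pow_eq_one (x := x) (n := 2) (by norm_num)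
      (by rw [pow_two]; exact mul_eq_one_iff_eq_inv.2 hyx)
    have : 2 ^ 2 ≤ 2 ^ (b + 2) := Nat.pow_le_pow_right (by norm_num) (by omega)
    omega
  · rw [← SylTwo.factorization_card_SL_two hF]
    exact Nat.pow_right_injective le_rfl (Q.card_eq_multiplicity.symm.trans hQcard)

/-! ### the torus -/

theorem chi_hr' (r s : Rt) {c : F} (hc : c ≠ 0) :
    χ ((R F).hr r c) s = c ^ chevG2.pairing r.val s.val := by
  have h1 : (R F).hr r c * X s 1 * ((R F).hr r c)⁻¹ = X s (χ ((R F).hr r c) s * 1) :=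
    conj_X ((R F).hr_mem_H hc) s 1
  have h2 : (R F).hr r c * X s 1 * ((R F).hr r c)⁻¹ = X s (c ^ chevG2.pairing r.val s.val * 1) := by
    rw [mul_inv_eq_iff_eq_mul]
    refine Model.mat_inj ?_
    have e := TypeG2.model.mat_hOf (relsOfCommGood uGoodG2.toCommGood F) r c
    refine (Model.mat_mul _ _).trans (Eq.trans ?_ (Model.mat_mul _ _).symm)
    exact (congrArg₂ (· * ·) e (TypeG2.model.mat_xG (relsOfCommGood uGoodG2.toCommGood F) s 1)).trans
      (((relsOfCommGood uGoodG2.toCommGood F).h_conj r.val s.val r.isLt s.isLt c 1 hc).trans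
        (congrArg₂ (· * ·) (TypeG2.model.mat_xG (relsOfCommGood uGoodG2.toCommGood F) s _) e).symm)
  simpa using X_inj s (h1.symm.trans h2)

theorem pairing_cert' : chevG2.pairing 7 7 = 2 ∧ chevG2.pairing 7 6 = -3 ∧
    chevG2.pairing 11 7 = 0 ∧ chevG2.pairing 11 6 = 1 := by
  decide +kernel

theorem psi2_eq_chi (t : ↥(R F).H) :
    ((psi2 t).1 : F) = χ t.1 7 ∧ ((psi2 t).2 : F) = χ t.1 6 := by
  rw [chi_eq, chi_eq, show cfv 7 = (1, 0) by decide, show cfv 6 = (0, 1) by decide]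
  constructor <;> simp [ev2]

theorem H_ext {t t' : Grp F} (ht : t ∈ (R F).H) (ht' : t' ∈ (R F).H) (h7 : χ t 7 = χ t' 7)
    (h6 : χ t 6 = χ t' 6) : t = t' := by
  have h : (⟨t, ht⟩ : ↥(R F).H) = ⟨t', ht'⟩ := psi2_injective (Prod.ext
    (Units.ext (((psi2_eq_chi ⟨t, ht⟩).1.trans h7).trans (psi2_eq_chi ⟨t', ht'⟩).1.symm))
    (Units.ext (((psi2_eq_chi ⟨t, ht⟩).2.trans h6).trans (psi2_eq_chi ⟨t', ht'⟩).2.symm)))
  exact congrArg Subtype.val h

/-- Conjugation by the twisted element on a rank one factor. -/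
theorem dconj_eq {c k : F} (hc : c ≠ 0) {u : Matrix (Fin 2) (Fin 2) F} {B A A' : SL2 F}
    (hB : B.1 = k • (!![c⁻¹, 0; 0, 1] * u)) (h : u * A.1 = A'.1 * u) :
    dconj c hc (B * A * B⁻¹) = A' := by
  set A'' := dconj c⁻¹ (inv_ne_zero hc) A' with hA''
  have e1 : A''.1 * !![c⁻¹, 0; 0, 1] = !![c⁻¹, 0; 0, 1] * A'.1 := by
    rw [hA'', coe_dconj]
    ext i j
    fin_cases i <;> fin_cases j <;> simp [Matrix.mul_apply, Fin.sum_univ_two] <;> field_simp
  have e2 : B * A = A'' * B := Subtype.ext (by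
    rw [Matrix.SpecialLinearGroup.coe_mul, Matrix.SpecialLinearGroup.coe_mul, hB, Matrix.smul_mul,
      Matrix.mul_smul, Matrix.mul_assoc, h, ← Matrix.mul_assoc, ← e1, Matrix.mul_assoc])
  rw [e2, mul_inv_cancel_right]
  refine Subtype.ext ?_
  rw [coe_dconj, hA'', coe_dconj]
  ext i j
  fin_cases i <;> fin_cases j <;> simp [hc]

theorem dconj_sq {c k : F} (hc : c ≠ 0) {x B : SL2 F} (hk : k * k * c⁻¹ * (1 + x.1).det = 1)
    (hB : B.1 = k • (!![c⁻¹, 0; 0, 1] * (1 + x.1))) :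
    dconj c hc B * ph slU slL c * B = x := by
  have e1 : (dconj c hc B).1 = k • ((1 + x.1) * !![c⁻¹, 0; 0, 1]) := by
    rw [coe_dconj, hB]
    generalize 1 + x.1 = u
    rw [Matrix.eta_fin_two u, Matrix.mul_fin_two, Matrix.mul_fin_two]
    ext i j
    fin_cases i <;> fin_cases j <;> simp [Matrix.mul_apply, Fin.sum_univ_two] <;> field_simp <;> simp
  refine Subtype.ext ?_
  rw [Matrix.SpecialLinearGroup.coe_mul, Matrix.SpecialLinearGroup.coe_mul, e1, ph_sl hc, hB]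
  simp only [Matrix.smul_mul, Matrix.mul_smul, smul_smul]
  rw [show (1 + x.1) * !![c⁻¹, 0; 0, 1] * !![c, 0; 0, c⁻¹] * (!![c⁻¹, 0; 0, 1] * (1 + x.1)) =
    (1 + x.1) * (!![c⁻¹, 0; 0, 1] * !![c, 0; 0, c⁻¹] * !![c⁻¹, 0; 0, 1]) * (1 + x.1) by
      simp only [Matrix.mul_assoc],
    show (!![c⁻¹, 0; 0, 1] * !![c, 0; 0, c⁻¹] * !![c⁻¹, 0; 0, 1] : Matrix (Fin 2) (Fin 2) F) =
      c⁻¹ • (1 : Matrix (Fin 2) (Fin 2) F) by
        ext i j
        fin_cases i <;> fin_cases j <;>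
          simp [Matrix.mul_apply, Fin.sum_univ_two, inv_mul_cancel₀ hc],
    Matrix.mul_smul, Matrix.mul_one, Matrix.smul_mul, sl_one_add_sq, smul_smul, smul_smul, hk,
    one_smul]

theorem ph_neg_one : (ph slU slL (-1 : F) : SL2 F) = -1 := by
  refine Subtype.ext ?_
  rw [ph_sl (neg_ne_zero.2 one_ne_zero), Matrix.SpecialLinearGroup.coe_neg,
    Matrix.SpecialLinearGroup.coe_one]
  ext i j
  fin_cases i <;> fin_cases j <;> simp [inv_neg]

theorem orth7 : ((7, 11) : Rt × Rt) ∈ orthPairs := by decide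

/-- The model sits in the group of type G2 as a Sylow 2-subgroup. -/
theorem exists_model [Fintype F] (hF : Odd (Fintype.card F)) :
    ∃ b : ℕ, ∃ f : Mdl (2 ^ (b + 2)) →* Grp F, Function.Injective f ∧
      Nat.card (Mdl (2 ^ (b + 2))) = 2 ^ (Nat.card (Grp F)).factorization 2 := by
  classical
  haveI : Fact (Nat.Prime 2) := ⟨Nat.prime_two⟩
  have h2 := SylTwo.two_ne_zero_of_odd_card hF
  obtain ⟨b, x, y, hxh, hyx, hyy, hsq, hfac⟩ := exists_sl_data hF
  set d := (1 + x.1).det with hd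
  have hd0 : d ≠ 0 := fun h => hsq (h ▸ IsSquare.zero)
  have hd3 : d ^ 3 ≠ 0 := pow_ne_zero _ hd0
  -- the torus element
  obtain ⟨⟨t, ht⟩, hpsi⟩ := psi2_surjective (F := F) (Units.mk0 d hd0, 1)
  obtain ⟨t7, t6⟩ := psi2_eq_chi ⟨t, ht⟩
  rw [hpsi] at t7 t6
  simp only [Units.val_mk0, Units.val_one] at t7 t6
  have t11 : χ t 11 = d ^ 3 := by
    have h := chi_eq ⟨t, ht⟩ 11
    rw [hpsi, show cfv 11 = (3, 2) by decide] at h
    rw [h, ev2]
    simp
  -- the two factors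
  let B1 : SL2 F := ⟨(1 : F) • (!![d⁻¹, 0; 0, 1] * (1 + x.1)), by
    rw [one_smul, Matrix.det_mul, ← hd, Matrix.det_fin_two_of]
    field_simp
    ring⟩
  let B2 : SL2 F := ⟨d • (!![(d ^ 3)⁻¹, 0; 0, 1] * (1 + x.1)), by
    rw [Matrix.det_smul, Fintype.card_fin, Matrix.det_mul, ← hd, Matrix.det_fin_two_of]
    field_simp
    ring⟩
  set g := t * phi 7 B1 * phi 11 B2 with hg
  have comm : ∀ A A' : SL2 F, phi 7 A * phi 11 A' = phi 11 A' * phi 7 A := phi_comm orth7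
  have conj7 : ∀ A A' : SL2 F, (1 + x.1) * A.1 = A'.1 * (1 + x.1) →
      g * phi 7 A * g⁻¹ = phi 7 A' := by
    intro A A' h
    have e : dconj (χ t 7) (chi_ne_zero ht 7) (B1 * A * B1⁻¹) = A' := by
      simp only [← t7]
      exact dconj_eq hd0 (k := 1) rfl h
    rw [hg, show t * phi 7 B1 * phi 11 B2 * phi 7 A * (t * phi 7 B1 * phi 11 B2)⁻¹ =
      t * (phi 7 B1 * (phi 11 B2 * phi 7 A * (phi 11 B2)⁻¹) * (phi 7 B1)⁻¹) * t⁻¹ by group,
      ← comm A B2, mul_inv_cancel_right, ← map_inv, ← map_mul, ← map_mul, phi_conj ht, e]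
  have conj11 : ∀ A A' : SL2 F, (1 + x.1) * A.1 = A'.1 * (1 + x.1) →
      g * phi 11 A * g⁻¹ = phi 11 A' := by
    intro A A' h
    have e : dconj (χ t 11) (chi_ne_zero ht 11) (B2 * A * B2⁻¹) = A' := by
      simp only [t11]
      exact dconj_eq hd3 (k := d) rfl h
    rw [hg, show t * phi 7 B1 * phi 11 B2 * phi 11 A * (t * phi 7 B1 * phi 11 B2)⁻¹ =
      t * (phi 7 B1 * (phi 11 B2 * phi 11 A * (phi 11 B2)⁻¹) * (phi 7 B1)⁻¹) * t⁻¹ by group,
      ← map_inv (phi 11), ← map_mul, ← map_mul, comm B1, mul_inv_cancel_right, phi_conj ht, e]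
  have hxx : (1 + x.1) * x.1 = x.1 * (1 + x.1) := by rw [add_mul, mul_add, one_mul, mul_one]
  have hxyx : x * y * x = y := by
    rw [mul_assoc, show y * x = x⁻¹ * y by rw [← hyx]; group, mul_inv_cancel_left]
  have hxy : (1 + x.1) * y.1 = (x * y).1 * (1 + x.1) := by
    rw [Matrix.SpecialLinearGroup.coe_mul, add_mul, mul_add, one_mul, mul_one]
    have h := congrArg (fun a : SL2 F => a.1) hxyx
    simp only [Matrix.SpecialLinearGroup.coe_mul] at h
    rw [h, add_comm]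
  set x1 := phi 7 x with hx1
  set x2 := phi 11 x with hx2
  set y1 := phi 7 y with hy1
  set y2 := phi 11 y with hy2
  have gx1 : g * x1 * g⁻¹ = x1 := conj7 x x hxx
  have gy1 : g * y1 * g⁻¹ = x1 * y1 := (conj7 y (x * y) hxy).trans (map_mul _ _ _)
  have gy2 : g * y2 * g⁻¹ = x2 * y2 := (conj11 y (x * y) hxy).trans (map_mul _ _ _)
  -- the square of `g`
  have hg2 : g * g = x1 * x2 := by
    have m7 : (R F).hr 7 d ∈ (R F).H := (R F).hr_mem_H hd0
    have m11 : (R F).hr 11 (d ^ 3) ∈ (R F).H := (R F).hr_mem_H hd3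
    obtain ⟨p1, p2, p3, p4⟩ := pairing_cert'
    have htt : t * t = phi 7 (ph slU slL d) * phi 11 (ph slU slL (d ^ 3)) := by
      rw [phi_ph, phi_ph]
      refine H_ext (mul_mem ht ht) (mul_mem m7 m11) ?_ ?_
      · refine (chi_mul ht ht 7).trans (Eq.trans ?_ (chi_mul m7 m11 7).symm)
        erw [chi_hr' 7 7 hd0, chi_hr' 11 7 hd3]
        rw [← t7,
          show chevG2.pairing (7 : Rt).val (7 : Rt).val = 2 from p1,
          show chevG2.pairing (11 : Rt).val (7 : Rt).val = 0 from p3]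
        simp [zpow_two, pow_two]
      · refine (chi_mul ht ht 6).trans (Eq.trans ?_ (chi_mul m7 m11 6).symm)
        erw [chi_hr' 7 6 hd0, chi_hr' 11 6 hd3]
        rw [← t6,
          show chevG2.pairing (7 : Rt).val (6 : Rt).val = -3 from p2,
          show chevG2.pairing (11 : Rt).val (6 : Rt).val = 1 from p4]
        rw [_root_.zpow_neg, zpow_one, mul_one, show ((3 : ℤ)) = ((3 : ℕ) : ℤ) by rfl, zpow_natCast,
          inv_mul_cancel₀ hd3]
    have e1 : dconj (χ t 7) (chi_ne_zero ht 7) B1 * ph slU slL d * B1 = x := by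
      simp only [← t7]
      exact dconj_sq hd0 (k := 1) (by rw [← hd]; field_simp) rfl
    have e2 : dconj (χ t 11) (chi_ne_zero ht 11) B2 * ph slU slL (d ^ 3) * B2 = x := by
      simp only [t11]
      exact dconj_sq hd3 (k := d) (by rw [← hd]; field_simp) rfl
    rw [hg, show t * phi 7 B1 * phi 11 B2 * (t * phi 7 B1 * phi 11 B2) =
        (t * phi 7 B1 * t⁻¹) * (t * phi 11 B2 * t⁻¹) * (t * t) * phi 7 B1 * phi 11 B2 by group,
      phi_conj ht, phi_conj ht, htt]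
    set D1 := dconj (χ t 7) (chi_ne_zero ht 7) B1
    set D2 := dconj (χ t 11) (chi_ne_zero ht 11) B2
    calc phi 7 D1 * phi 11 D2 * (phi 7 (ph slU slL d) * phi 11 (ph slU slL (d ^ 3))) * phi 7 B1 * phi 11 B2
        = phi 7 D1 * (phi 11 D2 * phi 7 (ph slU slL d)) * (phi 11 (ph slU slL (d ^ 3)) * phi 7 B1) *
            phi 11 B2 := by group
      _ = phi 7 D1 * phi 7 (ph slU slL d) * (phi 11 D2 * phi 7 B1) * phi 11 (ph slU slL (d ^ 3)) *
            phi 11 B2 := by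
          rw [← comm (ph slU slL d) D2, ← comm B1 (ph slU slL (d ^ 3))]; group
      _ = x1 * x2 := by
          rw [← comm B1 D2, hx1, hx2]
          conv_rhs => rw [show phi 7 x = phi 7 (D1 * ph slU slL d * B1) from by rw [e1],
            show phi 11 x = phi 11 (D2 * ph slU slL (d ^ 3) * B2) from by rw [e2]]
          simp only [map_mul, mul_assoc]
  clear_value g
  -- the central involution
  set z := phi 7 (-1 : SL2 F) with hz
  have hz11 : phi 11 (-1 : SL2 F) = z := by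
    rw [hz, ← ph_neg_one, phi_ph, phi_ph]
    obtain ⟨p1, p2, p3, p4⟩ := pairing_cert'
    have hm : (-1 : F) ≠ 0 := neg_ne_zero.2 one_ne_zero
    refine H_ext ((R F).hr_mem_H hm) ((R F).hr_mem_H hm) ?_ ?_
    · rw [chi_hr' 11 7 hm, chi_hr' 7 7 hm, show chevG2.pairing (7 : Rt).val (7 : Rt).val = 2 from p1,
        show chevG2.pairing (11 : Rt).val (7 : Rt).val = 0 from p3]
      simp [zpow_two]
    · rw [chi_hr' 11 6 hm, chi_hr' 7 6 hm, show chevG2.pairing (7 : Rt).val (6 : Rt).val = -3 from p2,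
        show chevG2.pairing (11 : Rt).val (6 : Rt).val = 1 from p4]
      rw [zpow_one, Odd.neg_one_zpow (show Odd (-3 : ℤ) by decide)]
  have hzz : z * z = 1 := by rw [hz, ← map_mul]; simp
  have hz1 : z ≠ 1 := by
    intro h
    have hm : (-1 : F) ≠ 0 := neg_ne_zero.2 one_ne_zero
    have h' := congrArg (fun a => χ a 6) h
    rw [hz, ← ph_neg_one, phi_ph, chi_hr' 7 6 hm,
      show chevG2.pairing (7 : Rt).val (6 : Rt).val = -3 from pairing_cert'.2.1,
      Odd.neg_one_zpow (show Odd (-3 : ℤ) by decide),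
      show χ (1 : Grp F) 6 = 1 from (psi2_eq_chi (1 : ↥(R F).H)).2.symm.trans (by rw [map_one]; rfl)] at h'
    exact h2 (by linear_combination -h')
  -- the generators
  set i := y1 * y2 with hi
  set N := 2 ^ (b + 1) with hN
  have cy : y1 * y2 = y2 * y1 := comm y y
  have cx : Commute x1 x2 := comm x x
  have y1x1 : y1 * x1⁻¹ * y1⁻¹ = x1 := by
    rw [hy1, hx1, ← map_inv, ← map_inv, ← map_mul, ← map_mul]
    congr 1
    rw [show y * x⁻¹ * y⁻¹ = (y * x * y⁻¹)⁻¹ by group, hyx, inv_inv]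
  have cgx : Commute g x1 := mul_inv_eq_iff_eq_mul.1 gx1
  have y1g : y1 * g * y1⁻¹ = x1⁻¹ * g := by
    rw [mul_inv_eq_iff_eq_mul, show x1⁻¹ * g * y1 = x1⁻¹ * (g * y1 * g⁻¹) * g by group, gy1]
    group
  have y2g : y2 * g * y2⁻¹ = x2⁻¹ * g := by
    rw [mul_inv_eq_iff_eq_mul, show x2⁻¹ * g * y2 = x2⁻¹ * (g * y2 * g⁻¹) * g by group, gy2]
    group
  have y1e : y1 * (x1⁻¹ * g) * y1⁻¹ = g := by
    rw [show y1 * (x1⁻¹ * g) * y1⁻¹ = (y1 * x1⁻¹ * y1⁻¹) * (y1 * g * y1⁻¹) by group, y1x1, y1g]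
    group
  have y1y1 : y1 * y1 = z := by rw [hy1, ← map_mul, hyy]
  have y2y2 : y2 * y2 = z := by rw [hy2, ← map_mul, hyy, hz11]
  have hii : i * i = 1 := by
    rw [hi, show y1 * y2 * (y1 * y2) = y1 * (y2 * y1) * y2 by group, ← cy,
      show y1 * (y1 * y2) * y2 = (y1 * y1) * (y2 * y2) by group, y1y1, y2y2, hzz]
  have ig : i * g * i⁻¹ = g⁻¹ := by
    rw [hi, show y1 * y2 * g * (y1 * y2)⁻¹ = y1 * (y2 * g * y2⁻¹) * y1⁻¹ by group, y2g,
      show y1 * (x2⁻¹ * g) * y1⁻¹ = (y1 * x2⁻¹) * g * y1⁻¹ by group,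
      show y1 * x2⁻¹ = x2⁻¹ * y1 from (show Commute y1 x2⁻¹ from (show Commute y1 x2 from comm y x).inv_right).eq,
      show x2⁻¹ * y1 * g * y1⁻¹ = x2⁻¹ * (y1 * g * y1⁻¹) by group, y1g, ← mul_assoc, ← _root_.mul_inv_rev,
      ← hg2]
    group
  have ix1 : i * x1⁻¹ * i⁻¹ = x1 := by
    rw [hi, show y1 * y2 * x1⁻¹ * (y1 * y2)⁻¹ = y1 * (y2 * x1⁻¹ * y2⁻¹) * y1⁻¹ by group,
      show y2 * x1⁻¹ = x1⁻¹ * y2 from (show Commute y2 x1 from (comm x y).symm).inv_right.eq,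
      mul_inv_cancel_right, y1x1]
  have gN : g ^ (2 * N) = 1 := by
    rw [pow_mul, pow_two, hg2, cx.mul_pow, hx1, hx2, ← map_pow, ← map_pow, hxh, hz11, ← hz, hzz]
  have x1N : x1 ^ N = z := by rw [hx1, ← map_pow, hxh, hz]
  have hn : 2 ^ (b + 2) = 2 * N := by rw [hN]; ring
  have he2 : (x1⁻¹ * g) ^ (2 * N) = 1 := by
    rw [(cgx.symm.inv_left).mul_pow, gN, mul_one, inv_pow, mul_comm 2 N, pow_mul, x1N, pow_two, hzz,
      inv_one]
  have hce : Commute g (x1⁻¹ * g) := cgx.inv_right.mul_right (Commute.refl g)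
  have heN : g ^ N * (x1⁻¹ * g) ^ N = z := by
    rw [(cgx.symm.inv_left).mul_pow, ← mul_assoc,
      ((cgx.inv_right).pow_pow N N).eq, mul_assoc, ← pow_add, ← two_mul, gN, mul_one, inv_pow, x1N]
    exact inv_eq_of_mul_eq_one_right hzz
  set s := g ^ N * y1 with hs
  have hss : s * s = 1 := by
    rw [hs, show g ^ N * y1 * (g ^ N * y1) = g ^ N * (y1 * g ^ N * y1⁻¹) * (y1 * y1) by group,
      ← conj_pow, y1g, heN, y1y1, hzz]
  have gNinv : (g⁻¹) ^ N = g ^ N := by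
    rw [inv_pow]
    exact inv_eq_of_mul_eq_one_right (by rw [← pow_add, ← two_mul, gN])
  have iy1 : i * y1 = y1 * i := by rw [hi, mul_assoc, ← cy]
  have hsi : s * i = i * s := by
    symm
    rw [hs, show i * (g ^ N * y1) = (i * g ^ N * i⁻¹) * (i * y1) by group, ← conj_pow, ig, gNinv, iy1,
      mul_assoc]
  have hs1 : s * g * s⁻¹ = x1⁻¹ * g := by
    rw [hs, show g ^ N * y1 * g * (g ^ N * y1)⁻¹ = g ^ N * (y1 * g * y1⁻¹) * (g ^ N)⁻¹ by group, y1g,
      (hce.pow_left N).eq, mul_inv_cancel_right]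
  have ie2 : i * (x1⁻¹ * g) * i⁻¹ = (x1⁻¹ * g)⁻¹ := by
    rw [show i * (x1⁻¹ * g) * i⁻¹ = (i * x1⁻¹ * i⁻¹) * (i * g * i⁻¹) by group, ix1, ig, _root_.mul_inv_rev,
      inv_inv]
    exact (cgx.symm.inv_right).eq
  obtain ⟨f, hfc⟩ := exists_model_hom (b := b) (hn ▸ gN) (hn ▸ he2) hce hss hii hsi hs1 ig ie2
  refine ⟨b, f, injective_of_cz (by rw [hfc, ← hN, heN]; exact hz1), ?_⟩
  -- the order
  rw [Mdl.card]
  obtain ⟨m, hm⟩ := hF
  have hq1 : 1 < Fintype.card F := Fintype.one_lt_card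
  set Q := Fintype.card F with hQ
  have hodd6 : ¬ 2 ∣ Q ^ 6 * (Q ^ 4 + Q ^ 2 + 1) := by
    rw [← even_iff_two_dvd, hm]
    simp [Nat.even_mul, Nat.even_add, Nat.even_pow]
  have hsplit : Nat.card (Grp F) = Q ^ 6 * (Q ^ 4 + Q ^ 2 + 1) * ((Q ^ 2 - 1) * (Q ^ 2 - 1)) := by
    rw [card_group, ← hQ]
    obtain ⟨r, hr⟩ : ∃ r, Q ^ 2 = r + 1 := ⟨Q ^ 2 - 1, by have := pow_pos (zero_lt_one.trans hq1) 2; omega⟩
    rw [show Q ^ 6 - 1 = (Q ^ 2 - 1) * (Q ^ 4 + Q ^ 2 + 1) from Nat.sub_eq_of_eq_add (by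
      rw [show Q ^ 6 = (Q ^ 2) ^ 3 by ring, show Q ^ 4 = (Q ^ 2) ^ 2 by ring, hr, Nat.add_sub_cancel]
      ring)]
    ring
  have hq2 : Q ^ 2 - 1 ≠ 0 := by
    have := one_lt_pow₀ hq1 (n := 2) (by norm_num)
    omega
  rw [hsplit, Nat.factorization_mul (show Q ^ 6 * (Q ^ 4 + Q ^ 2 + 1) ≠ 0 from fun h => hodd6 (by rw [h]; exact dvd_zero 2)) (mul_ne_zero hq2 hq2),
    Finsupp.add_apply, Nat.factorization_eq_zero_of_not_dvd hodd6, Nat.factorization_mul hq2 hq2,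
    Finsupp.add_apply, hfac]
  ring

end Cfsg.Agent.G2Syl
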