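import Cfsg.Agent.G2Syl.Model
import Cfsg.Agent.G2Syl.Transfer
import Cfsg.Agent.Lib.Components.ZStarInst

/-!
Involutions of a simple group with Sylow 2-subgroups `(Z/2^a × Z/2^a) : 2²` (helper30).
-/

set_option autoImplicit false
set_option linter.all false

namespace Cfsg.Agent.G2Syl

open Mdl

universe u

variable {b : ℕ} {G : Type u} [Group G] [Finite G] [IsSimpleGroup G] {S : Sylow 2 G}
  (μ : Mdl (2 ^ (b + 2)) →* G) (hi : Function.Injective μ) (hr : μ.range = (S : Subgroup G))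

include hi hr

theorem mem_S (m : Mdl (2 ^ (b + 2))) : μ m ∈ (S : Subgroup G) := hr ▸ ⟨m, rfl⟩

theorem exists_pre {x : G} (hx : x ∈ (S : Subgroup G)) : ∃ m, μ m = x := by
  rwa [← hr] at hx

theorem orderOf_cz : orderOf (μ (cz b)) = 2 := by
  rw [orderOf_injective μ hi]
  refine orderOf_eq_prime ?_ (cz_ne_one b)
  rw [pow_two]
  ext <;> simp [cz, tr, act, hf_add, one_def]

theorem card_G_ge : 64 ∣ Nat.card G := by
  have h := Subgroup.card_subgroup_dvd_card (S : Subgroup G)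
  rw [← hr, ← Nat.card_congr (MonoidHom.ofInjective hi).toEquiv, Mdl.card] at h
  refine (Dvd.intro (4 ^ b) ?_).trans h
  rw [pow_add, show (4 : ℕ) ^ b = (2 ^ b) ^ 2 by rw [← pow_mul, mul_comm, pow_mul]; norm_num]
  ring

theorem not_comm_G : ¬ IsMulCommutative G := by
  intro hc
  have h64 := card_G_ge μ hi hr
  letI : CommGroup G := { ‹Group G› with mul_comm := fun a c => hc.is_comm.comm a c }
  haveI : IsSimpleGroup G := ‹_›
  have hp : (Nat.card G).Prime := IsSimpleGroup.prime_card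
  rcases (Nat.dvd_prime hp).1 h64 with h | h
  · norm_num at h
  · rw [← h] at hp; norm_num at hp

theorem not_index_two (N : Subgroup G) (hN : N.Normal) (h2 : N.index = 2) : False := by
  rcases hN.eq_bot_or_eq_top with rfl | rfl
  · rw [Subgroup.index_bot] at h2
    have h := Nat.le_of_dvd (by omega) (card_G_ge μ hi hr)
    omega
  · rw [Subgroup.index_top] at h2; omega

/-- An involution of `S` is conjugate to one of the representatives. -/
theorem rep_conj {m : Mdl (2 ^ (b + 2))} (hm : m * m = 1) (h1 : m ≠ 1) :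
    m = cz b ∨ IsConj (μ m) (μ (tr (hf b) 0)) ∨ IsConj (μ m) (μ sw) ∨
      IsConj (μ m) (μ ⟨0, true, true⟩) ∨
      ∃ w ∈ ({(0, 0), (1, 1), (1, 0)} : Set (ZMod (2 ^ (b + 2)) × ZMod (2 ^ (b + 2)))),
        IsConj (μ m) (μ ⟨w, false, true⟩) := by
  have hcj : ∀ (k x : Mdl (2 ^ (b + 2))), IsConj (μ x) (μ (k * x * k⁻¹)) := fun k x =>
    isConj_iff.2 ⟨μ k, by simp⟩
  rcases inv_shape b hm with ⟨x, y, hx, hy, rfl⟩ | ⟨v, rfl⟩ | ⟨x, rfl⟩ | ⟨x, rfl⟩
  · rcases hx with rfl | rfl <;> rcases hy with rfl | rfl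
    · exact absurd rfl h1
    · refine Or.inr (Or.inl ?_)
      have := hcj sw (tr 0 (hf b))
      rwa [tr_swap_conj] at this
    · exact Or.inr (Or.inl (IsConj.refl _))
    · exact Or.inl rfl
  · obtain ⟨k, w, hw, e⟩ := inv_conj b v
    exact Or.inr (Or.inr (Or.inr (Or.inr ⟨w, hw, e ▸ hcj k _⟩)))
  · obtain ⟨k, e⟩ := sw_conj b x
    exact Or.inr (Or.inr (Or.inl (e ▸ hcj k _)))
  · obtain ⟨k, e⟩ := swi_conj b x
    exact Or.inr (Or.inr (Or.inr (Or.inl (e ▸ hcj k _))))

/-- A conjugation onto the central involution can carry the centralizer into `S`. -/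
theorem adjust {u : Mdl (2 ^ (b + 2))} (h : IsConj (μ u) (μ (cz b))) :
    ∃ g : G, g * μ u * g⁻¹ = μ (cz b) ∧ ∀ w, w * u = u * w → g * μ w * g⁻¹ ∈ (S : Subgroup G) := by
  obtain ⟨g, hg⟩ := isConj_iff.1 h
  set C := Subgroup.centralizer ({μ (cz b)} : Set G)
  have hSC : (S : Subgroup G) ≤ C := fun x hx => by
    obtain ⟨m, rfl⟩ := exists_pre μ hi hr hx
    rw [Subgroup.mem_centralizer_singleton_iff, ← map_mul, ← map_mul, cz_comm]
  set R : Subgroup G := (Subgroup.centralizer ({u} : Set (Mdl (2 ^ (b + 2))))).map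
    ((MulAut.conj g).toMonoidHom.comp μ)
  have hRC : R ≤ C := by
    rintro _ ⟨w, hw, rfl⟩
    rw [Subgroup.mem_centralizer_singleton_iff, ← hg]
    simp only [MonoidHom.coe_comp, Function.comp_apply, MulEquiv.coe_toMonoidHom, MulAut.conj_apply]
    have hc := congrArg μ (Subgroup.mem_centralizer_singleton_iff.1 hw)
    rw [map_mul, map_mul] at hc
    calc g * μ w * g⁻¹ * (g * μ u * g⁻¹) = g * (μ w * μ u) * g⁻¹ := by group
      _ = g * (μ u * μ w) * g⁻¹ := by rw [hc]
      _ = g * μ u * g⁻¹ * (g * μ w * g⁻¹) := by group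
  have hRp : IsPGroup 2 R := by
    refine IsPGroup.map ?_ _
    refine IsPGroup.to_subgroup ?_ _
    exact (show IsPGroup 2 μ.range by rw [hr]; exact S.2).of_equiv (MonoidHom.ofInjective hi).symm
  obtain ⟨P', hP'⟩ := (hRp.comap_subtype (K := C)).exists_le_sylow
  haveI : Fact (Nat.Prime 2) := ⟨Nat.prime_two⟩
  obtain ⟨c, hc⟩ := MulAction.exists_smul_eq C P' (S.subtype hSC)
  refine ⟨(c : G) * g, ?_, fun w hw => ?_⟩
  · have := Subgroup.mem_centralizer_singleton_iff.1 c.2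
    rw [show (c : G) * g * μ u * ((c : G) * g)⁻¹ = (c : G) * (g * μ u * g⁻¹) * (c : G)⁻¹ by group, hg,
      this, mul_inv_cancel_right]
  · have hwR : g * μ w * g⁻¹ ∈ R := ⟨w, Subgroup.mem_centralizer_singleton_iff.2 hw, rfl⟩
    have hmem : (⟨_, hRC hwR⟩ : C) ∈ (P' : Subgroup C) := hP' hwR
    have h2 : c * ⟨_, hRC hwR⟩ * c⁻¹ ∈ (S.subtype hSC : Subgroup C) := by
      rw [← hc]
      exact Subgroup.smul_mem_pointwise_smul _ _ _ hmem
    have h3 : (((c * ⟨_, hRC hwR⟩ * c⁻¹ : C)) : G) ∈ (S : Subgroup G) := h2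
    simpa [mul_assoc] using h3

/-- All involutions of `Ω₁(A)` are conjugate. -/
theorem conj_e : IsConj (μ (cz b)) (μ (tr (hf b) 0)) := by
  by_contra hne
  set Z := μ (cz b) with hZ
  set e1 := tr (hf b) 0 with he1
  have hne' : ¬ IsConj (μ e1) Z := fun h => hne h.symm
  have hroot : ∀ u, u ≠ cz b → IsConj (μ u) Z → (∃ w, w * u = u * w ∧ w * w = cz b) → False := by
    intro u huz hu ⟨w, hwc, hw⟩
    obtain ⟨g, hg, hgC⟩ := adjust μ hi hr hu
    obtain ⟨w', hw'⟩ := exists_pre μ hi hr (hgC w hwc)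
    have hZ' : μ (w' * w') = g * Z * g⁻¹ := by rw [map_mul, hw', hZ, ← hw, map_mul]; group
    have h4 : (w' * w') * (w' * w') = 1 := hi (by
      rw [map_mul μ (w' * w'), hZ', map_one,
        show g * Z * g⁻¹ * (g * Z * g⁻¹) = g * (Z * Z) * g⁻¹ by group, hZ, ← map_mul]
      rw [show cz b * cz b = (1 : Mdl (2 ^ (b + 2))) by ext <;> simp [cz, tr, act, hf_add, one_def]]
      simp)
    obtain ⟨x, y, hx, hy, hxy⟩ := sq_in_four b h4
    have hne1 : tr x y ≠ 1 := by
      intro h1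
      have : g * Z * g⁻¹ = 1 := by rw [← hZ', hxy, h1, map_one]
      exact cz_ne_one b (hi (by rw [← hZ, map_one]; exact conj_eq_one_iff.1 this))
    have hnez : tr x y ≠ cz b := by
      intro h1
      have : g * Z * g⁻¹ = g * μ u * g⁻¹ := by rw [← hZ', hxy, h1, hg]
      exact huz (hi (mul_left_cancel (mul_right_cancel this))).symm
    have hc : IsConj Z (μ (tr x y)) := isConj_iff.2 ⟨g, by rw [← hxy, hZ']⟩
    rcases hx with rfl | rfl <;> rcases hy with rfl | rfl
    · exact hne1 rfl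
    · refine hne (hc.trans ?_)
      exact isConj_iff.2 ⟨μ sw, by rw [← map_inv, ← map_mul, ← map_mul, tr_swap_conj]⟩
    · exact hne hc
    · exact hnez rfl
  have honly : ∀ m, m * m = 1 → m ≠ 1 → m ≠ cz b → IsConj (μ m) Z →
      IsConj (μ m) (μ ⟨(1, 0), false, true⟩) ∧ IsConj (μ ⟨(1, 0), false, true⟩) Z := by
    intro m hm hm1 hmz hmc
    have noteq : ∀ u : Mdl (2 ^ (b + 2)), (u.σ = true ∨ u.ι = true) → u ≠ cz b := by
      rintro u (h | h) rfl <;> simp [cz, tr] at h
    rcases rep_conj μ hi hr hm hm1 with h | h | h | h | ⟨w, hw, h⟩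
    · exact absurd h hmz
    · exact absurd (h.symm.trans hmc) hne'
    · exact (hroot _ (noteq _ (Or.inl rfl)) (h.symm.trans hmc) (exists_root b (Or.inl rfl))).elim
    · exact (hroot _ (noteq _ (Or.inl rfl)) (h.symm.trans hmc)
        (exists_root b (Or.inr (Or.inl rfl)))).elim
    · simp only [Set.mem_insert_iff, Set.mem_singleton_iff] at hw
      rcases hw with rfl | rfl | rfl
      · exact (hroot _ (noteq _ (Or.inr rfl)) (h.symm.trans hmc)
          (exists_root b (Or.inr (Or.inr (Or.inl rfl))))).elim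
      · exact (hroot _ (noteq _ (Or.inr rfl)) (h.symm.trans hmc)
          (exists_root b (Or.inr (Or.inr (Or.inr rfl))))).elim
      · exact ⟨h, h.symm.trans hmc⟩
  -- the central involution is not isolated
  set i10 : Mdl (2 ^ (b + 2)) := ⟨(1, 0), false, true⟩ with hi10
  have hi10c : IsConj (μ i10) Z := by
    obtain ⟨g, hgS, hgne⟩ : ∃ g : G, g * Z * g⁻¹ ∈ (S : Subgroup G) ∧ g * Z * g⁻¹ ≠ Z := by
      by_contra hno
      push Not at hno
      have hord := orderOf_cz μ hi hr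
      obtain ⟨N, hN, hodd, hcomm⟩ := Components.zStarProperty G S Z hord (mem_S μ hi hr _) hno
      rcases hN.eq_bot_or_eq_top with rfl | rfl
      · have hcen : Z ∈ Subgroup.center G := Subgroup.mem_center_iff.2 fun g => by
          have h1 := Subgroup.mem_bot.1 (hcomm g)
          rw [mul_inv_eq_one, mul_inv_eq_iff_eq_mul] at h1
          exact h1.symm
        rcases (inferInstance : (Subgroup.center G).Normal).eq_bot_or_eq_top with h | h
        · rw [h, Subgroup.mem_bot] at hcen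
          rw [hZ] at hcen
          rw [hcen, orderOf_one] at hord
          norm_num at hord
        · exact not_comm_G μ hi hr
            ⟨⟨fun a c => (Subgroup.mem_center_iff.1 (h ▸ Subgroup.mem_top c) a)⟩⟩
      · rw [Subgroup.card_top] at hodd
        exact Nat.not_even_iff_odd.2 hodd
          (even_iff_two_dvd.2 ((dvd_pow_self 2 (by norm_num : 6 ≠ 0)).trans (card_G_ge μ hi hr)))
    obtain ⟨m, hm⟩ := exists_pre μ hi hr hgS
    refine (honly m (hi ?_) ?_ ?_ (isConj_iff.2 ⟨g⁻¹, by rw [hm]; group⟩)).2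
    · rw [map_mul, hm, map_one, show g * Z * g⁻¹ * (g * Z * g⁻¹) = g * (Z * Z) * g⁻¹ by group, hZ,
        ← map_mul, show cz b * cz b = (1 : Mdl (2 ^ (b + 2))) by ext <;> simp [cz, tr, act, hf_add, one_def]]
      simp
    · rintro rfl
      rw [map_one] at hm
      exact cz_ne_one b (hi (by rw [← hZ, map_one]; exact conj_eq_one_iff.1 hm.symm))
    · rintro rfl
      exact hgne hm.symm
  -- the fours group argument
  obtain ⟨g₀, hg₀, hg₀C⟩ := adjust μ hi hr hi10c
  obtain ⟨v, hv⟩ := exists_pre μ hi hr (hg₀C (cz b) (cz_comm b i10).symm)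
  have hi10ne : i10 ≠ cz b := fun h => by simpa [cz, tr, hi10] using congrArg Mdl.ι h
  obtain ⟨k, hk⟩ : ∃ k, k * v * k⁻¹ = i10 := by
    have hvv : v * v = 1 := hi (by
      rw [map_mul, hv, map_one, show g₀ * Z * g₀⁻¹ * (g₀ * Z * g₀⁻¹) = g₀ * (Z * Z) * g₀⁻¹ by group, hZ,
        ← map_mul, show cz b * cz b = (1 : Mdl (2 ^ (b + 2))) by ext <;> simp [cz, tr, act, hf_add, one_def]]
      simp)
    have hv1 : v ≠ 1 := by
      rintro rfl
      rw [map_one] at hv
      exact cz_ne_one b (hi (by rw [← hZ, map_one]; exact conj_eq_one_iff.1 hv.symm))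
    have hvz : v ≠ cz b := by
      rintro rfl
      exact hi10ne (hi (mul_left_cancel (mul_right_cancel (hg₀.trans hv))))
    have hvc : IsConj (μ v) Z := isConj_iff.2 ⟨g₀⁻¹, by rw [hv, hZ]; group⟩
    rcases inv_shape b hvv with ⟨x, y, hx, hy, rfl⟩ | ⟨w, rfl⟩ | ⟨x, rfl⟩ | ⟨x, rfl⟩
    · rcases hx with rfl | rfl <;> rcases hy with rfl | rfl
      · exact absurd rfl hv1
      · refine absurd ?_ hne'
        refine IsConj.trans ?_ hvc
        exact isConj_iff.2 ⟨μ sw, by rw [← map_inv, ← map_mul, ← map_mul, tr_swap_conj]⟩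
      · exact absurd hvc hne'
      · exact absurd rfl hvz
    · obtain ⟨k, w', hw', e⟩ := inv_conj b w
      simp only [Set.mem_insert_iff, Set.mem_singleton_iff] at hw'
      have hc : IsConj (μ ⟨w', false, true⟩) Z := IsConj.trans
        (isConj_iff.2 ⟨(μ k)⁻¹, by rw [← e]; simp [mul_assoc]⟩) hvc
      rcases hw' with rfl | rfl | rfl
      · exact (hroot _ (fun h => by simpa [cz, tr] using congrArg Mdl.ι h) hc
          (exists_root b (Or.inr (Or.inr (Or.inl rfl))))).elim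
      · exact (hroot _ (fun h => by simpa [cz, tr] using congrArg Mdl.ι h) hc
          (exists_root b (Or.inr (Or.inr (Or.inr rfl))))).elim
      · exact ⟨k, e⟩
    · obtain ⟨k, e⟩ := sw_conj b x
      exact (hroot sw (fun h => by simpa [cz, tr, sw] using congrArg Mdl.σ h)
        (IsConj.trans (isConj_iff.2 ⟨(μ k)⁻¹, by rw [← e]; simp [mul_assoc]⟩) hvc)
        (exists_root b (Or.inl rfl))).elim
    · obtain ⟨k, e⟩ := swi_conj b x
      exact (hroot ⟨0, true, true⟩ (fun h => by simpa [cz, tr] using congrArg Mdl.σ h)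
        (IsConj.trans (isConj_iff.2 ⟨(μ k)⁻¹, by rw [← e]; simp [mul_assoc]⟩) hvc)
        (exists_root b (Or.inr (Or.inl rfl)))).elim
  set g := μ k * g₀ with hgd
  have hgZ : g * Z * g⁻¹ = μ i10 := by
    rw [hgd, show μ k * g₀ * Z * (μ k * g₀)⁻¹ = μ k * (g₀ * Z * g₀⁻¹) * (μ k)⁻¹ by group, hZ, ← hv,
      ← map_inv, ← map_mul, ← map_mul, hk]
  have himg : ∀ w, w * i10 = i10 * w → ∃ w', μ w' = g * μ w * g⁻¹ := fun w hw => by
    refine exists_pre μ hi hr ?_
    rw [hgd, show μ k * g₀ * μ w * (μ k * g₀)⁻¹ = μ k * (g₀ * μ w * g₀⁻¹) * (μ k)⁻¹ by group]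
    exact mul_mem (mul_mem (mem_S μ hi hr k) (hg₀C w hw)) (inv_mem (mem_S μ hi hr k))
  have hfour : ∀ x y, (x = 0 ∨ x = hf b) → (y = 0 ∨ y = hf b) → tr x y ≠ 1 → tr x y ≠ cz b →
      ∃ x' y', (x' = 0 ∨ x' = hf b) ∧ (y' = 0 ∨ y' = hf b) ∧ tr x' y' ≠ 1 ∧ tr x' y' ≠ cz b ∧
        μ (tr x' y') = g * μ (tr x y) * g⁻¹ := by
    intro x y hx hy h1 hz
    have hcm : tr x y * i10 = i10 * tr x y := by
      rcases hx with rfl | rfl <;> rcases hy with rfl | rfl <;>
        ext <;> simp [tr, hi10, act, neg_hf, add_comm]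
    have hnc : ¬ IsConj (μ (tr x y)) Z := by
      rcases hx with rfl | rfl <;> rcases hy with rfl | rfl
      · exact absurd rfl h1
      · intro h
        refine hne' (IsConj.trans ?_ h)
        exact isConj_iff.2 ⟨μ sw, by rw [← map_inv, ← map_mul, ← map_mul, tr_swap_conj]⟩
      · exact hne'
      · exact absurd rfl hz
    obtain ⟨w, hw⟩ := himg _ hcm
    have hwc : w * i10 = i10 * w := hi (by
      rw [map_mul, map_mul, hw, ← hgZ,
        show g * μ (tr x y) * g⁻¹ * (g * Z * g⁻¹) = g * (μ (tr x y) * Z) * g⁻¹ by group, hZ, ← map_mul,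
        cz_comm, map_mul]
      group)
    obtain ⟨x', y', hx', hy', rfl | rfl⟩ := cent_mixed b hwc
    · refine ⟨x', y', hx', hy', ?_, ?_, hw⟩
      · intro h
        rw [h, map_one] at hw
        exact h1 (hi (by rw [map_one]; exact conj_eq_one_iff.1 hw.symm))
      · intro h
        rw [h, ← hZ] at hw
        exact hnc (isConj_iff.2 ⟨g, hw.symm⟩)
    · exfalso
      refine hnc (IsConj.trans (isConj_iff.2 ⟨g, hw.symm⟩) (IsConj.trans ?_ hi10c))
      obtain ⟨c, hc⟩ : ∃ c, c + c = x' := by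
        rcases hx' with rfl | rfl
        exacts [⟨0, add_zero _⟩, ⟨qu b, qu_add b⟩]
      obtain ⟨d, hd⟩ : ∃ d, d + d = y' := by
        rcases hy' with rfl | rfl
        exacts [⟨0, add_zero _⟩, ⟨qu b, qu_add b⟩]
      refine isConj_iff.2 ⟨μ (tr (-c) (-d)), ?_⟩
      rw [← map_inv, ← map_mul, ← map_mul]
      congr 1
      subst hc hd
      ext <;> simp [tr, act, inv_def, hi10] <;> ring
  have hne0 : ∀ x y, (x = hf b ∧ y = 0) ∨ (x = 0 ∧ y = hf b) → tr x y ≠ 1 ∧ tr x y ≠ cz b := by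
    intro x y h
    rcases h with ⟨rfl, rfl⟩ | ⟨rfl, rfl⟩ <;>
      simp [tr, cz, Mdl.ext_iff, one_def, Prod.ext_iff, hf_ne, (hf_ne b).symm]
  obtain ⟨x, y, hx, hy, n1, n2, hxy⟩ :=
    hfour (hf b) 0 (Or.inr rfl) (Or.inl rfl) (hne0 _ _ (Or.inl ⟨rfl, rfl⟩)).1 (hne0 _ _ (Or.inl ⟨rfl, rfl⟩)).2
  obtain ⟨x', y', hx', hy', n1', n2', hxy'⟩ :=
    hfour 0 (hf b) (Or.inl rfl) (Or.inr rfl) (hne0 _ _ (Or.inr ⟨rfl, rfl⟩)).1 (hne0 _ _ (Or.inr ⟨rfl, rfl⟩)).2
  have hprod : μ (tr x y * tr x' y') = μ i10 := by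
    rw [map_mul, hxy, hxy', ← hgZ,
      show g * μ (tr (hf b) 0) * g⁻¹ * (g * μ (tr 0 (hf b)) * g⁻¹) =
        g * (μ (tr (hf b) 0) * μ (tr 0 (hf b))) * g⁻¹ by group, ← map_mul, hZ]
    congr 3
    ext <;> simp [tr, cz, act]
  simpa [tr, hi10, act] using congrArg Mdl.ι (hi hprod)

theorem card_inf_centralizer (m : Mdl (2 ^ (b + 2))) :
    Nat.card ↥((S : Subgroup G) ⊓ Subgroup.centralizer ({μ m} : Set G)) =
      Nat.card (Subgroup.centralizer ({m} : Set (Mdl (2 ^ (b + 2))))) := by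
  rw [← Subgroup.card_map_of_injective (K := Subgroup.centralizer {m}) hi]
  congr 2
  ext x
  constructor
  · rintro ⟨hx, hc⟩
    obtain ⟨w, rfl⟩ := exists_pre μ hi hr hx
    refine ⟨w, ?_, rfl⟩
    rw [SetLike.mem_coe, Subgroup.mem_centralizer_singleton_iff]
    apply hi
    rw [map_mul, map_mul]
    exact Subgroup.mem_centralizer_singleton_iff.1 hc
  · rintro ⟨w, hw, rfl⟩
    refine ⟨mem_S μ hi hr w, ?_⟩
    show μ w ∈ Subgroup.centralizer ({μ m} : Set G)
    rw [Subgroup.mem_centralizer_singleton_iff, ← map_mul, ← map_mul,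
      Subgroup.mem_centralizer_singleton_iff.1 hw]

/-- The transfer step for a subgroup of index two of the model. -/
theorem into_index_two (M : Subgroup (Mdl (2 ^ (b + 2)))) (hM : M.index = 2)
    {u : Mdl (2 ^ (b + 2))} (huM : u ∉ M) (hu : u * u = 1) :
    ∃ m ∈ M, m * m = 1 ∧ m ≠ 1 ∧ IsConj (μ u) (μ m) ∧
      Nat.card (Subgroup.centralizer ({u} : Set (Mdl (2 ^ (b + 2))))) ≤
        Nat.card (Subgroup.centralizer ({m} : Set (Mdl (2 ^ (b + 2))))) := by
  by_contra hno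
  push Not at hno
  have hu1 : u ≠ 1 := fun h => huM (h ▸ one_mem M)
  have hord : orderOf (μ u) = 2 := by
    rw [orderOf_injective μ hi]
    exact orderOf_eq_prime (by rw [pow_two, hu]) hu1
  have hrel : (M.map μ).relIndex (S : Subgroup G) = 2 := by
    rw [← hr, MonoidHom.range_eq_map, Subgroup.relIndex_map_map_of_injective _ _ hi,
      Subgroup.relIndex_top_right]
    exact hM
  obtain ⟨N, hN, hN2, -⟩ := transfer_extremal S (M.map μ) hrel hord (fun g hgS hgM => by
    obtain ⟨m, hm, hme⟩ := hgM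
    have hmm : m * m = 1 := hi (by
      rw [map_mul, hme, map_one, show g * μ u * g⁻¹ * (g * μ u * g⁻¹) = g * (μ u * μ u) * g⁻¹ by group,
        ← map_mul, hu, map_one]
      simp)
    have hm1 : m ≠ 1 := by
      rintro rfl
      rw [map_one] at hme
      exact hu1 (hi (by rw [map_one]; exact conj_eq_one_iff.1 hme.symm))
    refine ⟨1, by simpa using mem_S μ hi hr u, ?_⟩
    rw [← hme, one_mul, inv_one, mul_one, card_inf_centralizer μ hi hr, card_inf_centralizer μ hi hr]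
    exact hno m hm hmm hm1 (isConj_iff.2 ⟨g, hme.symm⟩))
  exact not_index_two μ hi hr N hN hN2

theorem classes :
    (∀ x y : G, orderOf x = 2 → orderOf y = 2 → IsConj x y) ∨
      (Nat.card ↥(S : Subgroup G) = 64 ∧ ∃ x y : G, orderOf x = 2 ∧ orderOf y = 2 ∧ ¬ IsConj x y ∧
        ∀ z : G, orderOf z = 2 → IsConj z x ∨ IsConj z y) := by
  classical
  set Z := μ (cz b) with hZ
  let K (f : Mdl (2 ^ (b + 2)) → Bool) (hf1 : f 1 = false)
      (hf2 : ∀ x y, f (x * y) = xor (f x) (f y)) : Subgroup (Mdl (2 ^ (b + 2))) :=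
    { carrier := {x | f x = false}
      one_mem' := hf1
      mul_mem' := fun {x y} hx hy => by
        simp only [Set.mem_setOf_eq] at hx hy ⊢
        rw [hf2, hx, hy]; rfl
      inv_mem' := fun {x} hx => by
        simp only [Set.mem_setOf_eq] at hx ⊢
        have := hf2 x x⁻¹
        rw [mul_inv_cancel, hf1, hx] at this
        simpa using this.symm }
  set Mσ := K (fun x => x.σ) rfl (fun x y => rfl) with hMσ
  set Mι := K (fun x => x.ι) rfl (fun x y => rfl) with hMι
  have memσ : ∀ x, x ∈ Mσ ↔ x.σ = false := fun x => Iff.rfl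
  have memι : ∀ x, x ∈ Mι ↔ x.ι = false := fun x => Iff.rfl
  have iσ : Mσ.index = 2 := Subgroup.index_eq_two_iff.2 ⟨sw, fun x => by
    obtain ⟨v, s, i⟩ := x
    cases s <;> simp [memσ, sw]⟩
  have iι : Mι.index = 2 := Subgroup.index_eq_two_iff.2 ⟨inv', fun x => by
    obtain ⟨v, s, i⟩ := x
    cases i <;> simp [memι, inv']⟩
  -- involutions of `Ω₁(A)`
  have hA : ∀ x y, (x = 0 ∨ x = hf b) → (y = 0 ∨ y = hf b) → tr x y ≠ 1 →
      IsConj (μ (tr x y)) Z := by
    intro x y hx hy h1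
    have he := (conj_e μ hi hr).symm
    rcases hx with rfl | rfl <;> rcases hy with rfl | rfl
    · exact absurd rfl h1
    · refine IsConj.trans ?_ he
      exact isConj_iff.2 ⟨μ sw, by rw [← map_inv, ← map_mul, ← map_mul, tr_swap_conj]⟩
    · exact he
    · exact IsConj.refl _
  -- everything outside `A : ⟨s⟩` goes to `Z` or `s`
  have hout : ∀ u : Mdl (2 ^ (b + 2)), u.ι = true → u * u = 1 → IsConj (μ u) Z ∨ IsConj (μ u) (μ sw) := by
    intro u hu huu
    obtain ⟨m, hm, hmm, hm1, hc, -⟩ := into_index_two μ hi hr Mι iι (u := u) (by simp [memι, hu]) huu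
    rw [memι] at hm
    rcases inv_shape b hmm with ⟨x, y, hx, hy, rfl⟩ | ⟨v, rfl⟩ | ⟨x, rfl⟩ | ⟨x, rfl⟩
    · exact Or.inl (hc.trans (hA x y hx hy hm1))
    · simp at hm
    · obtain ⟨k, e⟩ := sw_conj b x
      exact Or.inr (hc.trans (isConj_iff.2 ⟨μ k, by rw [← map_inv, ← map_mul, ← map_mul, e]⟩))
    · simp at hm
  have hall : ∀ g : G, orderOf g = 2 → IsConj g Z ∨ IsConj g (μ sw) := by
    intro g hg
    haveI : Fact (Nat.Prime 2) := ⟨Nat.prime_two⟩
    have hp : IsPGroup 2 (Subgroup.zpowers g) :=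
      IsPGroup.of_card (n := 1) (by rw [Nat.card_zpowers, hg, pow_one])
    obtain ⟨P, hP⟩ := hp.exists_le_sylow
    obtain ⟨c, hc⟩ := MulAction.exists_smul_eq G P S
    have hcg : c * g * c⁻¹ ∈ (S : Subgroup G) := by
      rw [← hc]
      exact Subgroup.smul_mem_pointwise_smul _ _ _ (hP (Subgroup.mem_zpowers g))
    obtain ⟨m, hm⟩ := exists_pre μ hi hr hcg
    have hgm : IsConj g (μ m) := isConj_iff.2 ⟨c, hm.symm⟩
    have hgg : g * g = 1 := by rw [← pow_two, ← hg, pow_orderOf_eq_one]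
    have hmm : m * m = 1 := hi (by
      rw [map_mul, hm, map_one, show c * g * c⁻¹ * (c * g * c⁻¹) = c * (g * g) * c⁻¹ by group, hgg]
      simp)
    have hm1 : m ≠ 1 := by
      rintro rfl
      rw [map_one] at hm
      rw [conj_eq_one_iff.1 hm.symm, orderOf_one] at hg
      norm_num at hg
    rcases inv_shape b hmm with ⟨x, y, hx, hy, rfl⟩ | ⟨v, rfl⟩ | ⟨x, rfl⟩ | ⟨x, rfl⟩
    · exact Or.inl (hgm.trans (hA x y hx hy hm1))
    · exact (hout _ rfl hmm).imp (fun h => hgm.trans h) fun h => hgm.trans h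
    · obtain ⟨k, e⟩ := sw_conj b x
      exact Or.inr (hgm.trans (isConj_iff.2 ⟨μ k, by rw [← map_inv, ← map_mul, ← map_mul, e]⟩))
    · exact (hout _ rfl hmm).imp (fun h => hgm.trans h) fun h => hgm.trans h
  by_cases hs : IsConj (μ sw) Z
  · left
    intro x y hx hy
    have h : ∀ g : G, orderOf g = 2 → IsConj g Z := fun g hg => (hall g hg).elim id fun h => h.trans hs
    exact (h x hx).trans (h y hy).symm
  · right
    have hsw : (sw : Mdl (2 ^ (b + 2))) * sw = 1 := by ext <;> simp [sw, act, one_def]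
    obtain ⟨m, hm, hmm, hm1, hc, hle⟩ := into_index_two μ hi hr Mσ iσ (u := sw) (by simp [memσ, sw]) hsw
    rw [memσ] at hm
    have hb : b = 0 := by
      rcases inv_shape b hmm with ⟨x, y, hx, hy, rfl⟩ | ⟨v, rfl⟩ | ⟨x, rfl⟩ | ⟨x, rfl⟩
      · exact absurd (hc.trans (hA x y hx hy hm1)) hs
      · have h1 : 4 * 2 ^ (b + 2) ≤ 16 :=
          (le_card_cent_sw b false).trans (hle.trans (card_cent_inv b v))
        by_contra hb
        have : 2 ^ 3 ≤ 2 ^ (b + 2) := Nat.pow_le_pow_right (by norm_num) (by omega)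
        omega
      · simp at hm
      · simp at hm
    refine ⟨?_, Z, μ sw, orderOf_cz μ hi hr, ?_, fun h => hs h.symm, hall⟩
    · rw [← hr, ← Nat.card_congr (MonoidHom.ofInjective hi).toEquiv, Mdl.card, hb]
      norm_num
    · rw [orderOf_injective μ hi]
      refine orderOf_eq_prime (by rw [pow_two, hsw]) fun h => ?_
      simpa [sw, one_def] using congrArg Mdl.σ h

end Cfsg.Agent.G2Syl
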