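import Mathlib

/-!
The model `(Z/n × Z/n) : 2²` of a Sylow 2-subgroup of `G₂(q)`, `q` odd (helper30).
-/

set_option autoImplicit false
set_option linter.all false

namespace Cfsg.Agent.G2Syl

/-- Triples `(v, σ, ι)`: translation, swap, inversion. -/
@[ext]
structure Mdl (n : ℕ) : Type where
  v : ZMod n × ZMod n
  σ : Bool
  ι : Bool

namespace Mdl

variable {n : ℕ}

/-- The action of a pair `(swap, inversion)`. -/
def act : Bool → Bool → ZMod n × ZMod n → ZMod n × ZMod n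
  | false, false, w => w
  | false, true, w => (-w.1, -w.2)
  | true, false, w => (w.2, w.1)
  | true, true, w => (-w.2, -w.1)

instance : Mul (Mdl n) := ⟨fun a b => ⟨a.v + act a.σ a.ι b.v, xor a.σ b.σ, xor a.ι b.ι⟩⟩
instance : One (Mdl n) := ⟨⟨0, false, false⟩⟩
instance : Inv (Mdl n) := ⟨fun a => ⟨-act a.σ a.ι a.v, a.σ, a.ι⟩⟩

theorem mul_def (a b : Mdl n) : a * b = ⟨a.v + act a.σ a.ι b.v, xor a.σ b.σ, xor a.ι b.ι⟩ := rfl
theorem one_def : (1 : Mdl n) = ⟨0, false, false⟩ := rfl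
theorem inv_def (a : Mdl n) : a⁻¹ = ⟨-act a.σ a.ι a.v, a.σ, a.ι⟩ := rfl

@[simp] theorem mul_mk (v w : ZMod n × ZMod n) (s i t j : Bool) :
    (⟨v, s, i⟩ : Mdl n) * ⟨w, t, j⟩ = ⟨v + act s i w, xor s t, xor i j⟩ := rfl

instance : Group (Mdl n) := Group.ofLeftAxioms
  (by
    rintro ⟨⟨a1, a2⟩, s, i⟩ ⟨⟨b1, b2⟩, t, j⟩ ⟨⟨c1, c2⟩, u, k⟩
    cases s <;> cases i <;> cases t <;> cases j <;>
      simp [mul_def, act] <;> constructor <;> ring)
  (by
    rintro ⟨⟨a1, a2⟩, s, i⟩
    simp [mul_def, one_def, act])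
  (by
    rintro ⟨⟨a1, a2⟩, s, i⟩
    cases s <;> cases i <;> simp [mul_def, one_def, inv_def, act])

/-- Forgetting the structure. -/
def equivProd : Mdl n ≃ (ZMod n × ZMod n) × Bool × Bool where
  toFun a := (a.v, a.σ, a.ι)
  invFun p := ⟨p.1, p.2.1, p.2.2⟩
  left_inv _ := rfl
  right_inv _ := rfl

instance [NeZero n] : Finite (Mdl n) := Finite.of_equiv _ equivProd.symm

theorem card [NeZero n] : Nat.card (Mdl n) = 4 * n ^ 2 := by
  rw [Nat.card_congr equivProd]
  simp
  ring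

/-- A translation. -/
def tr (x y : ZMod n) : Mdl n := ⟨(x, y), false, false⟩
/-- The swap. -/
def sw : Mdl n := ⟨0, true, false⟩
/-- The inversion. -/
def inv' : Mdl n := ⟨0, false, true⟩

section TwoPower

variable (b : ℕ)

/-- Half of the modulus. -/
def hf : ZMod (2 ^ (b + 2)) := ((2 ^ (b + 1) : ℕ) : ZMod (2 ^ (b + 2)))

/-- A quarter of the modulus. -/
def qu : ZMod (2 ^ (b + 2)) := ((2 ^ b : ℕ) : ZMod (2 ^ (b + 2)))

theorem qu_add : qu b + qu b = hf b := by
  rw [qu, hf, ← Nat.cast_add]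
  congr 1
  ring

theorem hf_add : hf b + hf b = 0 := by
  rw [hf, ← Nat.cast_add, show 2 ^ (b + 1) + 2 ^ (b + 1) = 2 ^ (b + 2) by ring, ZMod.natCast_self]

theorem hf_ne : hf b ≠ 0 := by
  rw [hf, ne_eq, ZMod.natCast_eq_zero_iff]
  intro h
  have h1 := Nat.le_of_dvd (by positivity) h
  have h2 : 2 ^ (b + 1) < 2 ^ (b + 2) := Nat.pow_lt_pow_right (by norm_num) (by omega)
  omega

theorem neg_hf : -hf b = hf b := neg_eq_of_add_eq_zero_left (hf_add b)

theorem two_torsion {x : ZMod (2 ^ (b + 2))} (h : x + x = 0) : x = 0 ∨ x = hf b := by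
  rw [← ZMod.natCast_zmod_val x, ← Nat.cast_add, ZMod.natCast_eq_zero_iff] at h
  obtain ⟨c, hc⟩ := h
  have hlt := ZMod.val_lt x
  have hp : 2 ^ (b + 2) = 2 * 2 ^ (b + 1) := by ring
  have hc2 : c < 2 := by
    by_contra hc2
    have : 2 ^ (b + 2) * 2 ≤ 2 ^ (b + 2) * c := Nat.mul_le_mul_left _ (by omega)
    omega
  interval_cases c
  · left
    rw [← ZMod.natCast_zmod_val x, show x.val = 0 by omega, Nat.cast_zero]
  · right
    rw [← ZMod.natCast_zmod_val x, show x.val = 2 ^ (b + 1) by omega]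
    rfl

theorem one_add_one_ne : (1 : ZMod (2 ^ (b + 2))) + 1 ≠ 0 := by
  intro h
  rw [← Nat.cast_one, ← Nat.cast_add, ZMod.natCast_eq_zero_iff] at h
  have h1 := Nat.le_of_dvd (by norm_num) h
  have h2 : 2 ^ 2 ≤ 2 ^ (b + 2) := Nat.pow_le_pow_right (by norm_num) (by omega)
  omega

theorem parity (x : ZMod (2 ^ (b + 2))) : ∃ u, x = u + u ∨ x = u + u + 1 := by
  refine ⟨((x.val / 2 : ℕ) : ZMod (2 ^ (b + 2))), ?_⟩
  rcases Nat.mod_two_eq_zero_or_one x.val with h | h
  · left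
    conv_lhs => rw [← ZMod.natCast_zmod_val x, show x.val = x.val / 2 + x.val / 2 by omega]
    push_cast
    rfl
  · right
    conv_lhs => rw [← ZMod.natCast_zmod_val x, show x.val = x.val / 2 + x.val / 2 + 1 by omega]
    push_cast
    rfl

theorem one_ne_double (u : ZMod (2 ^ (b + 2))) : u + u ≠ 1 := by
  intro h
  rw [← ZMod.natCast_zmod_val u, ← Nat.cast_add] at h
  have h1 : ((1 : ℕ) : ZMod (2 ^ (b + 2))) = 1 := Nat.cast_one
  rw [← h1, ZMod.natCast_eq_natCast_iff'] at h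
  have hd : 2 ∣ 2 ^ (b + 2) := dvd_pow_self 2 (by omega)
  have := congrArg (· % 2) h
  simp only [Nat.mod_mod_of_dvd _ hd] at this
  omega

/-- The central involution. -/
def cz : Mdl (2 ^ (b + 2)) := tr (hf b) (hf b)

theorem cz_ne_one : cz b ≠ 1 := fun h => hf_ne b (congrArg (fun a => a.v.1) h)

theorem cz_comm (g : Mdl (2 ^ (b + 2))) : g * cz b = cz b * g := by
  obtain ⟨⟨x, y⟩, s, i⟩ := g
  cases s <;> cases i <;> simp [cz, tr, act, neg_hf, add_comm]

theorem center_eq {g : Mdl (2 ^ (b + 2))} (hg : ∀ k, g * k = k * g) : g = 1 ∨ g = cz b := by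
  obtain ⟨⟨x, y⟩, s, i⟩ := g
  have h1 := congrArg (fun a => a.v) (hg (tr 1 0))
  have h2 := congrArg (fun a => a.v) (hg sw)
  have h3 := congrArg (fun a => a.v) (hg inv')
  cases s <;> cases i <;> simp [tr, sw, inv', act, Prod.ext_iff] at h1 h2 h3 ⊢
  · obtain ⟨rfl, -⟩ := h2
    rcases two_torsion b (x := x) (by linear_combination h3.1) with rfl | rfl
    · exact Or.inl rfl
    · exact Or.inr rfl
  all_goals
    exfalso
    first
      | exact one_add_one_ne b (by linear_combination -h1)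
      | exact one_add_one_ne b (by linear_combination 2 * h1)

/-- An involution is of one of four shapes. -/
theorem inv_shape {g : Mdl (2 ^ (b + 2))} (h : g * g = 1) :
    (∃ x y, (x = 0 ∨ x = hf b) ∧ (y = 0 ∨ y = hf b) ∧ g = tr x y) ∨
      (∃ v, g = ⟨v, false, true⟩) ∨ (∃ x, g = ⟨(x, -x), true, false⟩) ∨
      ∃ x, g = ⟨(x, x), true, true⟩ := by
  obtain ⟨⟨x, y⟩, s, i⟩ := g
  have h1 := congrArg (fun a => a.v) h
  cases s <;> cases i <;> simp [act, one_def, Prod.ext_iff] at h1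
  · exact Or.inl ⟨x, y, two_torsion b h1.1, two_torsion b h1.2, rfl⟩
  · exact Or.inr (Or.inl ⟨_, rfl⟩)
  · refine Or.inr (Or.inr (Or.inl ⟨x, ?_⟩))
    rw [show y = -x by linear_combination h1.1]
  · refine Or.inr (Or.inr (Or.inr ⟨x, ?_⟩))
    rw [show y = x by linear_combination -h1.1]

theorem tr_swap_conj (x y : ZMod (2 ^ (b + 2))) : sw * tr x y * (sw : Mdl (2 ^ (b + 2)))⁻¹ = tr y x := by
  simp [sw, tr, act, inv_def]

/-- The classes in the inverting coset. -/
theorem inv_conj (v : ZMod (2 ^ (b + 2)) × ZMod (2 ^ (b + 2))) :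
    ∃ k : Mdl (2 ^ (b + 2)), ∃ w ∈ ({(0, 0), (1, 1), (1, 0)} : Set _),
      k * ⟨v, false, true⟩ * k⁻¹ = ⟨w, false, true⟩ := by
  obtain ⟨x, y⟩ := v
  obtain ⟨u, hu⟩ := parity b x
  obtain ⟨w, hw⟩ := parity b y
  rcases hu with rfl | rfl <;> rcases hw with rfl | rfl
  · exact ⟨tr (-u) (-w), (0, 0), by simp, by ext <;> simp [tr, act, inv_def] <;> ring⟩
  · exact ⟨sw * tr (-u) (-w), (1, 0), by simp, by ext <;> simp [sw, tr, act, inv_def] <;> ring⟩
  · exact ⟨tr (-u) (-w), (1, 0), by simp, by ext <;> simp [tr, act, inv_def] <;> ring⟩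
  · exact ⟨tr (-u) (-w), (1, 1), by simp, by ext <;> simp [tr, act, inv_def] <;> ring⟩

theorem sw_conj (x : ZMod (2 ^ (b + 2))) :
    ∃ k : Mdl (2 ^ (b + 2)), k * ⟨(x, -x), true, false⟩ * k⁻¹ = sw :=
  ⟨tr (-x) 0, by ext <;> simp [tr, sw, act, inv_def]⟩

theorem swi_conj (x : ZMod (2 ^ (b + 2))) :
    ∃ k : Mdl (2 ^ (b + 2)), k * ⟨(x, x), true, true⟩ * k⁻¹ = ⟨0, true, true⟩ :=
  ⟨tr (-x) 0, by ext <;> simp [tr, act, inv_def]⟩

/-- Square roots of the central involution commuting with the five classes. -/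
theorem exists_root {u : Mdl (2 ^ (b + 2))}
    (hu : u = sw ∨ u = ⟨0, true, true⟩ ∨ u = ⟨(0, 0), false, true⟩ ∨ u = ⟨(1, 1), false, true⟩) :
    ∃ w, w * u = u * w ∧ w * w = cz b := by
  rcases hu with rfl | rfl | rfl | rfl
  · exact ⟨tr (qu b) (qu b), by ext <;> simp [tr, sw, act], by ext <;> simp [tr, cz, act, qu_add]⟩
  · exact ⟨tr (qu b) (-qu b), by ext <;> simp [tr, act],
      by ext <;> simp [tr, cz, act, qu_add, ← neg_add, neg_hf]⟩
  · exact ⟨⟨(hf b, 0), true, false⟩, by ext <;> simp [act, neg_hf],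
      by ext <;> simp [cz, tr, act]⟩
  · exact ⟨⟨(hf b, 0), true, false⟩, by ext <;> simp [act, neg_hf] <;> ring,
      by ext <;> simp [cz, tr, act]⟩

/-- Squares of order two. -/
theorem sq_in_four {w : Mdl (2 ^ (b + 2))} (h : (w * w) * (w * w) = 1) :
    ∃ x y, (x = 0 ∨ x = hf b) ∧ (y = 0 ∨ y = hf b) ∧ w * w = tr x y := by
  rcases inv_shape b h with h' | ⟨v, hv⟩ | ⟨x, hx⟩ | ⟨x, hx⟩
  · exact h'
  all_goals
    exfalso
    obtain ⟨u, s, i⟩ := w
    cases s <;> cases i <;> simp [Mdl.ext_iff] at *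

/-- The centralizer of the mixed inverting involution is elementary of order eight. -/
theorem cent_mixed {g : Mdl (2 ^ (b + 2))}
    (h : g * ⟨(1, 0), false, true⟩ = ⟨(1, 0), false, true⟩ * g) :
    ∃ x y, (x = 0 ∨ x = hf b) ∧ (y = 0 ∨ y = hf b) ∧
      (g = tr x y ∨ g = tr x y * ⟨(1, 0), false, true⟩) := by
  obtain ⟨⟨x, y⟩, s, i⟩ := g
  have h1 := congrArg (fun a => a.v) h
  cases s <;> cases i <;> simp [act, Prod.ext_iff] at h1
  · exact ⟨x, y, two_torsion b (by linear_combination h1.1), two_torsion b (by linear_combination h1.2),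
      Or.inl rfl⟩
  · refine ⟨x - 1, y, two_torsion b (by linear_combination h1.1),
      two_torsion b (by linear_combination h1.2), Or.inr ?_⟩
    simp [tr, act]
  · exact absurd (by linear_combination h1.1) (one_ne_double b x)
  · exact absurd (by linear_combination h1.2) (one_ne_double b y)

theorem card_cent_inv (v : ZMod (2 ^ (b + 2)) × ZMod (2 ^ (b + 2))) :
    Nat.card (Subgroup.centralizer ({⟨v, false, true⟩} : Set (Mdl (2 ^ (b + 2))))) ≤ 16 := by
  classical
  obtain ⟨v1, v2⟩ := v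
  set C := Subgroup.centralizer ({⟨(v1, v2), false, true⟩} : Set (Mdl (2 ^ (b + 2))))
  haveI : Fintype C := Fintype.ofFinite C
  have key : ∀ g ∈ C, g.v.1 + g.v.1 = v1 - (act g.σ g.ι (v1, v2)).1 ∧
      g.v.2 + g.v.2 = v2 - (act g.σ g.ι (v1, v2)).2 := by
    rintro ⟨⟨x, y⟩, s, i⟩ hg
    have h1 := congrArg (fun a => a.v) (Subgroup.mem_centralizer_singleton_iff.1 hg)
    cases s <;> cases i <;> simp [act, Prod.ext_iff] at h1 ⊢ <;>
      constructor <;> first | linear_combination h1.1 | linear_combination h1.2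
  -- distinct elements over the same pair of signs differ by a 2-torsion translation
  let f : C → (Bool × Bool) := fun g => (g.1.σ, g.1.ι)
  have hfib : ∀ p, (Finset.univ.filter fun g : C => f g = p).card ≤ 4 := by
    intro p
    rcases Finset.eq_empty_or_nonempty (Finset.univ.filter fun g : C => f g = p) with h0 | ⟨g₀, hg₀⟩
    · simp [h0]
    simp only [Finset.mem_filter, Finset.mem_univ, true_and] at hg₀
    refine le_trans (Finset.card_le_card_of_injOn
      (t := ({0, hf b} : Finset (ZMod (2 ^ (b + 2)))) ×ˢ ({0, hf b} : Finset (ZMod (2 ^ (b + 2)))))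
      (fun g => g.1.v - g₀.1.v) ?_ ?_) ?_
    · intro g hg
      simp only [Finset.coe_filter, Finset.mem_univ, true_and, Set.mem_setOf_eq] at hg
      have hs : g.1.σ = g₀.1.σ ∧ g.1.ι = g₀.1.ι := Prod.ext_iff.1 (hg.trans hg₀.symm)
      have hz : ∀ z : ZMod (2 ^ (b + 2)) × ZMod (2 ^ (b + 2)), z.1 + z.1 = 0 → z.2 + z.2 = 0 →
          z ∈ ({0, hf b} : Finset _) ×ˢ ({0, hf b} : Finset _) := fun z a c =>
        Finset.mem_product.2 ⟨by simpa using two_torsion b a, by simpa using two_torsion b c⟩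
      obtain ⟨a, c⟩ := key g.1 g.2
      obtain ⟨a', c'⟩ := key g₀.1 g₀.2
      rw [hs.1, hs.2] at a c
      exact hz _ (by simp only [Prod.fst_sub]; linear_combination a - a')
          (by simp only [Prod.snd_sub]; linear_combination c - c')
    · intro g hg g' hg' he
      simp only [Finset.coe_filter, Finset.mem_univ, true_and, Set.mem_setOf_eq] at hg hg'
      have hs := Prod.ext_iff.1 (hg.trans hg'.symm)
      exact Subtype.ext (Mdl.ext (sub_left_injective he) hs.1 hs.2)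
    · refine (Finset.card_product _ _).trans_le (Nat.mul_le_mul (Finset.card_le_two) (Finset.card_le_two))
  have h := Finset.card_le_mul_card_image (Finset.univ : Finset C) 4
    (f := f) (fun p _ => hfib p)
  rw [Nat.card_eq_fintype_card, ← Finset.card_univ]
  refine h.trans ?_
  have : (Finset.univ.image f).card ≤ 4 := (Finset.card_le_univ _).trans (by simp)
  omega

theorem le_card_cent_sw (i : Bool) :
    4 * 2 ^ (b + 2) ≤
      Nat.card (Subgroup.centralizer ({⟨0, true, i⟩} : Set (Mdl (2 ^ (b + 2))))) := by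
  let f : ZMod (2 ^ (b + 2)) × Bool × Bool →
      Subgroup.centralizer ({⟨0, true, i⟩} : Set (Mdl (2 ^ (b + 2)))) := fun p =>
    ⟨⟨(p.1, if i then -p.1 else p.1), p.2.1, p.2.2⟩, by
      rw [Subgroup.mem_centralizer_singleton_iff]
      obtain ⟨x, s, j⟩ := p
      cases i <;> cases s <;> cases j <;> ext <;> simp [act]⟩
  have hf : Function.Injective f := fun p q h => by
    have h' := congrArg Subtype.val h
    simp only [f, Mdl.ext_iff, Prod.ext_iff] at h'
    exact Prod.ext h'.1.1 (Prod.ext h'.2.1 h'.2.2)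
  have h := Nat.card_le_card_of_injective f hf
  simpa [Nat.card_prod, mul_comm] using h

end TwoPower

end Mdl

end Cfsg.Agent.G2Syl
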